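import Groth.Agent.Lib.KoszulEuler.Exponents
import Mathlib.RingTheory.Length
import Mathlib.RingTheory.Ideal.Operations
import Mathlib.RingTheory.Nakayama
import Mathlib.RingTheory.LocalRing.MaximalIdeal.Basic
import Mathlib.RingTheory.Artinian.Module
import Mathlib.Algebra.Order.Group.PiLex
import Mathlib.Order.PiLex

/-! Lech's filtration of `M / q^T M` by monomials. -/

set_option autoImplicit false
set_option linter.style.haveILetI false

universe u

open LinearMap

namespace GrothLib.KoszulEuler.Lech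

open GrothLib.KoszulEuler.Exps

variable {A : Type u} [CommRing A] {M : Type u} [AddCommGroup M] [Module A M] {d : ℕ} (x : Fin d → A)

/-- The monomial. -/
def mono (a : Fin d → ℕ) : A := ∏ j, x j ^ a j

theorem mono_mem_pow (a : Fin d → ℕ) : mono x a ∈ Ideal.span (Set.range x) ^ ∑ j, a j := by
  rw [mono, ← Finset.prod_pow_eq_pow_sum]
  exact Ideal.prod_mem_prod fun j _ => Ideal.pow_mem_pow (Ideal.subset_span (Set.mem_range_self j)) _

theorem mono_add (a b : Fin d → ℕ) : mono x (a + b) = mono x a * mono x b := by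
  simp [mono, pow_add, Finset.prod_mul_distrib]

theorem pow_span_le : ∀ t : ℕ, Ideal.span (Set.range x) ^ t ≤ Ideal.span (mono x '' (mon d t : Set (Fin d → ℕ)))
  | 0 => by
    refine le_of_le_of_eq le_top ?_
    rw [eq_comm, Ideal.eq_top_iff_one]
    have h1 : (1 : A) ∈ mono x '' (mon d 0 : Set (Fin d → ℕ)) := ⟨0, by simp [mem_mon], by simp [mono]⟩
    exact Ideal.subset_span h1
  | t + 1 => by
    rw [pow_succ]
    refine le_trans (Ideal.mul_mono (pow_span_le t) le_rfl) ?_
    rw [Ideal.span_mul_span', Ideal.span_le]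
    rintro _ ⟨_, ⟨a, ha, rfl⟩, _, ⟨j, rfl⟩, rfl⟩
    refine Ideal.subset_span ⟨a + Pi.single j 1, ?_, ?_⟩
    · rw [Finset.mem_coe, mem_mon] at ha ⊢
      simp [Finset.sum_add_distrib, ha]
    · rw [mono_add]
      simp [mono, Pi.single_apply]

/-- The colength. -/
noncomputable def col (U : Submodule A M) : ℤ := ((Module.length A (M ⧸ U)).toNat : ℤ)

/-- The length of an image in a quotient. -/
theorem length_quot_add {U' U : Submodule A M} (h : U' ≤ U) :
    Module.length A (M ⧸ U') = Module.length A (U.map U'.mkQ) + Module.length A (M ⧸ U) :=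
  Module.length_eq_add_of_exact (U.map U'.mkQ).subtype (Submodule.factor h) (Submodule.injective_subtype _)
    (Submodule.factor_surjective h) (LinearMap.exact_iff.2 (by
      rw [Submodule.range_subtype, Submodule.factor, Submodule.ker_mapQ, Submodule.comap_id]))

theorem length_quot_ne_top_of_le {U' U : Submodule A M} (h : U' ≤ U) (hfin : Module.length A (M ⧸ U') ≠ ⊤) :
    Module.length A (M ⧸ U) ≠ ⊤ :=
  ne_top_of_le_ne_top hfin (Module.length_le_of_surjective _ (Submodule.factor_surjective h))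

theorem col_eq {U' U : Submodule A M} (h : U' ≤ U) (hfin : Module.length A (M ⧸ U') ≠ ⊤) :
    col U' = col U + ((Module.length A (U.map U'.mkQ)).toNat : ℤ) := by
  have h1 : Module.length A (U.map U'.mkQ) ≠ ⊤ :=
    ne_top_of_le_ne_top hfin (Module.length_le_of_injective _ (Submodule.injective_subtype _))
  rw [col, length_quot_add h, ENat.toNat_add h1 (length_quot_ne_top_of_le h hfin), col]
  push_cast
  ring

variable [IsLocalRing A]

local notation "𝔪" => IsLocalRing.maximalIdeal A

theorem length_residues (ι : Type) [Fintype ι] : Module.length A (ι → A ⧸ (𝔪 : Ideal A)) = Fintype.card ι := by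
  haveI : IsSimpleModule A (A ⧸ (𝔪 : Ideal A)) :=
    isSimpleModule_iff_quot_maximal.2 ⟨𝔪, IsLocalRing.maximalIdeal.isMaximal A, ⟨LinearEquiv.refl A _⟩⟩
  rw [Module.length_pi_of_fintype]
  simp [Module.length_eq_one]

theorem col_le {U' U : Submodule A M} (h : U' ≤ U) (hfin : Module.length A (M ⧸ U') ≠ ⊤)
    (S : Finset (Fin d → ℕ)) (y : (Fin d → ℕ) → M) (hy : ∀ a ∈ S, ∀ c ∈ 𝔪, c • y a ∈ U')
    (hspan : U ≤ U' ⊔ Submodule.span A (y '' (S : Set (Fin d → ℕ)))) : col U' ≤ col U + S.card := by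
  classical
  rw [col_eq h hfin]
  refine add_le_add_right (Int.ofNat_le.2 ?_) _
  let φ : (S → A ⧸ (𝔪 : Ideal A)) →ₗ[A] M ⧸ U' := LinearMap.lsum A (fun _ : S => A ⧸ (𝔪 : Ideal A)) A fun a =>
    Submodule.liftQ 𝔪 (LinearMap.toSpanSingleton A (M ⧸ U') (U'.mkQ (y a.1))) fun c hc => by
      show c • U'.mkQ (y a.1) = 0
      rw [← map_smul]
      exact (Submodule.Quotient.mk_eq_zero _).2 (hy a.1 a.2 c hc)
  have hle : U.map U'.mkQ ≤ range φ := by
    refine (Submodule.map_mono hspan).trans ?_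
    rw [Submodule.map_sup, show U'.map U'.mkQ = ⊥ by simp, bot_sup_eq,
      Submodule.map_span, Submodule.span_le]
    rintro _ ⟨_, ⟨a, ha, rfl⟩, rfl⟩
    refine ⟨Pi.single ⟨a, ha⟩ (Submodule.Quotient.mk 1), ?_⟩
    rw [LinearMap.lsum_piSingle]
    exact one_smul A (U'.mkQ (y a))
  have h1 := (Module.length_le_of_injective (Submodule.inclusion hle) (Submodule.inclusion_injective hle)).trans
    ((Module.length_le_of_surjective φ.rangeRestrict φ.surjective_rangeRestrict).trans_eq (length_residues S))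
  rw [Fintype.card_coe] at h1
  simpa using ENat.toNat_le_toNat h1 (ENat.natCast_ne_top _)

theorem col_ge {U' U : Submodule A M} (h : U' ≤ U) (hfin : Module.length A (M ⧸ U') ≠ ⊤)
    (S : Finset (Fin d → ℕ)) (y : (Fin d → ℕ) → M) (hyU : ∀ a ∈ S, y a ∈ U) (hy : ∀ a ∈ S, ∀ c ∈ 𝔪, c • y a ∈ U')
    (hind : ∀ c : (Fin d → ℕ) → A, ∑ a ∈ S, c a • y a ∈ U' → ∀ a ∈ S, c a ∈ 𝔪) : col U + S.card ≤ col U' := by
  classical
  rw [col_eq h hfin]
  refine add_le_add_right (Int.ofNat_le.2 ?_) _
  let φ : (S → A ⧸ (𝔪 : Ideal A)) →ₗ[A] M ⧸ U' := LinearMap.lsum A (fun _ : S => A ⧸ (𝔪 : Ideal A)) A fun a =>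
    Submodule.liftQ 𝔪 (LinearMap.toSpanSingleton A (M ⧸ U') (U'.mkQ (y a.1))) fun c hc => by
      show c • U'.mkQ (y a.1) = 0
      rw [← map_smul]
      exact (Submodule.Quotient.mk_eq_zero _).2 (hy a.1 a.2 c hc)
  have hmem : ∀ z, φ z ∈ U.map U'.mkQ := fun z => by
    simp only [φ, LinearMap.lsum_apply, LinearMap.sum_apply]
    refine Submodule.sum_mem _ fun a _ => ?_
    obtain ⟨c, hc⟩ := Submodule.Quotient.mk_surjective _ (z a)
    refine ⟨c • y a.1, U.smul_mem c (hyU a.1 a.2), ?_⟩
    rw [LinearMap.comp_apply, LinearMap.proj_apply, ← hc]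
    exact map_smul _ _ _
  have hinj : Function.Injective (φ.codRestrict _ hmem) := by
    rw [← LinearMap.ker_eq_bot, LinearMap.ker_codRestrict, Submodule.eq_bot_iff]
    intro z hz
    choose c hc using fun a : S => Submodule.Quotient.mk_surjective _ (z a)
    let c' : (Fin d → ℕ) → A := fun a => if ha : a ∈ S then c ⟨a, ha⟩ else 0
    have h0 : ∑ a ∈ S, c' a • y a ∈ U' := by
      refine (Submodule.Quotient.mk_eq_zero U').1 ?_
      rw [← U'.mkQ_apply, map_sum, ← Finset.sum_coe_sort]
      rw [LinearMap.mem_ker] at hz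
      simp only [φ, LinearMap.lsum_apply, LinearMap.sum_apply] at hz
      refine Eq.trans (Finset.sum_congr rfl fun a _ => ?_) hz
      rw [LinearMap.comp_apply, LinearMap.proj_apply, ← hc a, show c' a.1 = c a from dif_pos a.2]
      exact map_smul _ _ _
    funext a
    rw [← hc a]
    refine (Submodule.Quotient.mk_eq_zero _).2 ?_
    simpa [c'] using hind c' h0 a.1 a.2
  have h1 := Module.length_le_of_injective _ hinj
  rw [length_residues, Fintype.card_coe] at h1
  simpa using ENat.toNat_le_toNat h1 (ne_top_of_le_ne_top hfin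
    (Module.length_le_of_injective _ (Submodule.injective_subtype _)))

variable [IsNoetherianRing A] [Module.Finite A M]

theorem exists_socle {P : Submodule A M} (hP : P ≠ ⊤) (hfin : Module.length A (M ⧸ P) ≠ ⊤) :
    ∃ v : M, v ∉ P ∧ ∀ c ∈ 𝔪, c • v ∈ P := by
  haveI : IsArtinian A (M ⧸ P) := (isFiniteLength_iff_isNoetherian_isArtinian.1 (Module.length_ne_top_iff.1 hfin)).2
  haveI : Nontrivial (M ⧸ P) := Submodule.Quotient.nontrivial_iff.2 hP
  obtain ⟨S, hS, hmin⟩ := IsArtinian.set_has_minimal {S : Submodule A (M ⧸ P) | S ≠ ⊥} ⟨⊤, top_ne_bot⟩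
  have h0 : (𝔪 : Ideal A) • S = ⊥ := by
    by_contra hne
    refine hmin _ hne (lt_of_le_of_ne Submodule.smul_le_right fun he => ?_)
    exact hS (Submodule.eq_bot_of_le_smul_of_le_jacobson_bot 𝔪 S (IsNoetherian.noetherian S) he.ge
      (IsLocalRing.maximalIdeal_le_jacobson ⊥))
  obtain ⟨q, hq, hq0⟩ := Submodule.exists_mem_ne_zero_of_ne_bot hS
  obtain ⟨v, rfl⟩ := Submodule.Quotient.mk_surjective _ q
  refine ⟨v, fun h => hq0 ((Submodule.Quotient.mk_eq_zero _).2 h), fun c hc => (Submodule.Quotient.mk_eq_zero _).1 ?_⟩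
  rw [Submodule.Quotient.mk_smul, ← Submodule.mem_bot A, ← h0]
  exact Submodule.smul_mem_smul hc hq

omit [IsNoetherianRing A] [Module.Finite A M] in
theorem col_sup_span {P : Submodule A M} (hfin : Module.length A (M ⧸ P) ≠ ⊤) {v : M} (hv : v ∉ P)
    (hm : ∀ c ∈ 𝔪, c • v ∈ P) : col P = col (P ⊔ Submodule.span A {v}) + 1 := by
  refine le_antisymm ?_ ?_
  · have := col_le (d := 0) (le_sup_left : P ≤ P ⊔ Submodule.span A {v}) hfin {0} (fun _ => v) (fun _ _ => hm)
      (by simp)
    simpa using this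
  · have := col_ge (d := 0) (le_sup_left : P ≤ P ⊔ Submodule.span A {v}) hfin {0} (fun _ => v)
      (fun _ _ => Submodule.mem_sup_right (Submodule.mem_span_singleton_self v)) (fun _ _ => hm)
      (fun c hc a ha => by
        by_contra hne
        obtain ⟨w, hw⟩ := (IsLocalRing.notMem_maximalIdeal.1 hne).exists_left_inv
        rw [Finset.mem_singleton] at ha
        subst ha
        rw [Finset.sum_singleton] at hc
        refine hv ?_
        have := P.smul_mem w hc
        rwa [← mul_smul, hw, one_smul] at this)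
    simpa using this

variable (n : ℕ)

/-- `(x₁ⁿ, …, x_dⁿ) M`. -/
abbrev Xn : Submodule A M := Ideal.span (Set.range fun j => x j ^ n) • ⊤

omit [IsLocalRing A] [IsNoetherianRing A] [Module.Finite A M] in
theorem mono_smul_mem_Xn {a : Fin d → ℕ} {j : Fin d} (h : n ≤ a j) (v : M) : mono x a • v ∈ Xn x n := by
  refine Submodule.smul_mem_smul ?_ trivial
  rw [mono, ← Finset.mul_prod_erase _ _ (Finset.mem_univ j), ← Nat.sub_add_cancel h, pow_add]
  exact Ideal.mul_mem_right _ _ (Ideal.mul_mem_left _ _ (Ideal.subset_span ⟨j, rfl⟩))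

/-- The bounds carried along the induction. -/
def Bounds (P : Submodule A M) : Prop :=
  ∃ r C : ℕ, (∀ T, (r : ℤ) * cnt d T ≤
      ∑ t ∈ Finset.range T, (col (Ideal.span (Set.range x) ^ t • P) - col (Ideal.span (Set.range x) ^ t • (⊤ : Submodule A M)))) ∧
    (∀ T, ∑ t ∈ Finset.range T, (col (Ideal.span (Set.range x) ^ t • P) - col (Ideal.span (Set.range x) ^ t • (⊤ : Submodule A M))) ≤
      col P * cnt d T) ∧
    ∀ n T : ℕ, (n : ℤ) * ∑ t ∈ Finset.range T, (col (Xn x n ⊔ Ideal.span (Set.range x) ^ t • P) -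
      col (Xn x n ⊔ Ideal.span (Set.range x) ^ t • (⊤ : Submodule A M))) ≤ (r * n + C : ℤ) * n ^ d

omit [IsLocalRing A] [IsNoetherianRing A] [Module.Finite A M] in
theorem bounds_top : Bounds x (⊤ : Submodule A M) := by
  refine ⟨0, 0, fun T => by simp, fun T => ?_, fun n T => by simp⟩
  simp only [sub_self, Finset.sum_const_zero]
  exact mul_nonneg (Int.natCast_nonneg _) (Int.natCast_nonneg _)

variable {P : Submodule A M} {v : M}

omit [IsLocalRing A] [IsNoetherianRing A] [Module.Finite A M] in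
theorem pow_smul_sup_le (t : ℕ) : Ideal.span (Set.range x) ^ t • (P ⊔ Submodule.span A {v}) ≤
    Ideal.span (Set.range x) ^ t • P ⊔ Submodule.span A ((fun a => mono x a • v) '' (mon d t : Set (Fin d → ℕ))) := by
  rw [Submodule.smul_sup]
  refine sup_le le_sup_left (le_trans ?_ le_sup_right)
  refine (Submodule.smul_mono_left (pow_span_le x t)).trans ?_
  rw [Submodule.span_smul_span, Submodule.span_le]
  rintro _ ⟨_, ⟨a, ha, rfl⟩, _, rfl, rfl⟩
  exact Submodule.subset_span ⟨a, ha, rfl⟩

omit [IsNoetherianRing A] [Module.Finite A M] in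
theorem smul_mono_mem (hm : ∀ c ∈ 𝔪, c • v ∈ P) {t : ℕ} {a : Fin d → ℕ} (ha : a ∈ mon d t) {c : A} (hc : c ∈ 𝔪) :
    c • mono x a • v ∈ Ideal.span (Set.range x) ^ t • P := by
  rw [smul_comm]
  exact Submodule.smul_mem_smul (mem_mon.1 ha ▸ mono_mem_pow x a) (hm c hc)

omit [IsLocalRing A] [IsNoetherianRing A] [Module.Finite A M] in
theorem mono_smul_mem_sup {t : ℕ} {a : Fin d → ℕ} (ha : a ∈ mon d t) :
    mono x a • v ∈ Ideal.span (Set.range x) ^ t • (P ⊔ Submodule.span A {v}) :=
  Submodule.smul_mem_smul (mem_mon.1 ha ▸ mono_mem_pow x a) (Submodule.mem_sup_right (Submodule.mem_span_singleton_self v))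

omit [IsNoetherianRing A] [Module.Finite A M] in
/-- A relation in degree `s` lets one avoid the exponents above a leading one. -/
theorem exists_avoid (hm : ∀ c ∈ 𝔪, c • v ∈ P) {s : ℕ} {c : (Fin d → ℕ) → A}
    (hrel : ∑ a ∈ mon d s, c a • mono x a • v ∈ Ideal.span (Set.range x) ^ s • P) (hne : ∃ a ∈ mon d s, c a ∉ 𝔪) :
    ∃ α : Fin d → ℕ, ∀ t, ∀ b ∈ mon d t, mono x b • v ∈ Ideal.span (Set.range x) ^ t • P ⊔
      Submodule.span A ((fun a => mono x a • v) '' (((mon d t).filter fun a => ¬ ∀ j, α j ≤ a j) : Set (Fin d → ℕ))) := by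
  classical
  obtain ⟨a₀, ha₀, hc₀⟩ := hne
  obtain ⟨α, hα, hmax⟩ := Finset.exists_max_image ((mon d s).filter fun a => c a ∉ 𝔪) (fun a => toLex a)
    ⟨a₀, Finset.mem_filter.2 ⟨ha₀, hc₀⟩⟩
  obtain ⟨hαs, hcα⟩ := Finset.mem_filter.1 hα
  refine ⟨α, fun t b hb => ?_⟩
  let W : Submodule A M := Ideal.span (Set.range x) ^ t • P ⊔
    Submodule.span A ((fun a => mono x a • v) '' (((mon d t).filter fun a => ¬ ∀ j, α j ≤ a j) : Set (Fin d → ℕ)))
  suffices H : ∀ k : ℕ, ∀ b ∈ mon d t, ((mon d t).filter fun a => toLex a < toLex b).card = k → mono x b • v ∈ W from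
    H _ b hb rfl
  intro k
  induction k using Nat.strong_induction_on with
  | _ k ih =>
    intro b hb hk
    by_cases hle : ∀ j, α j ≤ b j
    · obtain ⟨γ, rfl⟩ : ∃ γ, b = γ + α := ⟨b - α, funext fun j => (Nat.sub_add_cancel (hle j)).symm⟩
      have hts : (∑ j, γ j) + s = t := by
        rw [← mem_mon.1 hb, ← mem_mon.1 hαs, ← Finset.sum_add_distrib]; rfl
      have h1 : mono x γ • ∑ a ∈ mon d s, c a • mono x a • v ∈ W := by
        refine Submodule.mem_sup_left ?_
        rw [← hts, pow_add, mul_smul]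
        exact Submodule.smul_mem_smul (mono_mem_pow x γ) hrel
      rw [Finset.smul_sum, ← Finset.add_sum_erase _ _ hαs] at h1
      have h2 : ∑ a ∈ (mon d s).erase α, mono x γ • c a • mono x a • v ∈ W := Submodule.sum_mem _ fun a ha => by
        obtain ⟨hne, has⟩ := Finset.mem_erase.1 ha
        have hmem : γ + a ∈ mon d t := by
          rw [mem_mon, ← hts, ← mem_mon.1 has, ← Finset.sum_add_distrib]; rfl
        rw [smul_comm, ← mul_smul (mono x γ), ← mono_add]
        by_cases hca : c a ∈ 𝔪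
        · exact Submodule.mem_sup_left (smul_mono_mem x hm hmem hca)
        · have hlt : toLex a < toLex α :=
            lt_of_le_of_ne (hmax a (Finset.mem_filter.2 ⟨has, hca⟩)) fun e => hne (toLex.injective e)
          have hlt' : toLex (γ + a) < toLex (γ + α) := by
            show toLex γ + toLex a < toLex γ + toLex α
            exact add_lt_add_right hlt _
          refine W.smul_mem _ (ih _ ?_ (γ + a) hmem rfl)
          rw [← hk]
          refine Finset.card_lt_card ⟨fun e he => ?_, fun hsub => ?_⟩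
          · obtain ⟨he1, he2⟩ := Finset.mem_filter.1 he
            exact Finset.mem_filter.2 ⟨he1, he2.trans hlt'⟩
          · exact lt_irrefl (toLex (γ + a)) (Finset.mem_filter.1 (hsub (Finset.mem_filter.2 ⟨hmem, hlt'⟩))).2
      have h3 := (Submodule.add_mem_iff_left W h2).1 h1
      rw [smul_comm, ← mul_smul (mono x γ), ← mono_add] at h3
      obtain ⟨w, hw⟩ := (IsLocalRing.notMem_maximalIdeal.1 hcα).exists_left_inv
      have h4 := W.smul_mem w h3
      rwa [← mul_smul, hw, one_smul] at h4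
    · exact Submodule.mem_sup_right (Submodule.subset_span ⟨b, Finset.mem_coe.2 (Finset.mem_filter.2 ⟨hb, hle⟩), rfl⟩)

omit [Module.Finite A M] [IsNoetherianRing A] in
theorem bounds_step (hqP : Ideal.span (Set.range x) • (⊤ : Submodule A M) ≤ P)
    (hfin : ∀ t, Module.length A (M ⧸ (Ideal.span (Set.range x) ^ t • (⊤ : Submodule A M))) ≠ ⊤)
    (hv : v ∉ P) (hm : ∀ c ∈ 𝔪, c • v ∈ P) (hQ : Bounds x (P ⊔ Submodule.span A {v})) : Bounds x P := by
  classical
  obtain ⟨r, C, hlo, hup, hb⟩ := hQ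
  have hfinP : ∀ t, Module.length A (M ⧸ ((Ideal.span (Set.range x)) ^ t • P)) ≠ ⊤ := fun t => by
    refine length_quot_ne_top_of_le ?_ (hfin (t + 1))
    rw [pow_succ, mul_smul]
    exact Submodule.smul_mono le_rfl hqP
  have hPQ : ∀ t, (Ideal.span (Set.range x)) ^ t • P ≤ (Ideal.span (Set.range x)) ^ t • (P ⊔ Submodule.span A {v}) := fun t => Submodule.smul_mono le_rfl le_sup_left
  have hcolP : col P = col (P ⊔ Submodule.span A {v}) + 1 := col_sup_span (by have := hfinP 0; rwa [pow_zero, one_smul] at this) hv hm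
  have hany : ∀ t, col ((Ideal.span (Set.range x)) ^ t • P) ≤ col ((Ideal.span (Set.range x)) ^ t • (P ⊔ Submodule.span A {v})) + (mon d t).card := fun t =>
    col_le (hPQ t) (hfinP t) _ (fun a => mono x a • v) (fun a ha c hc => smul_mono_mem x hm ha hc) (pow_smul_sup_le x t)
  have hup' : ∀ T, ∑ t ∈ Finset.range T, (col ((Ideal.span (Set.range x)) ^ t • P) - col ((Ideal.span (Set.range x)) ^ t • (⊤ : Submodule A M))) ≤ col P * cnt d T := by
    intro T
    rw [hcolP, add_mul, one_mul]
    refine le_trans ?_ (add_le_add (hup T) le_rfl)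
    rw [cnt, Nat.cast_sum, ← Finset.sum_add_distrib]
    exact Finset.sum_le_sum fun t _ => by linarith [hany t]
  by_cases hind : ∀ s, ∀ c : (Fin d → ℕ) → A, ∑ a ∈ mon d s, c a • mono x a • v ∈ (Ideal.span (Set.range x)) ^ s • P →
      ∀ a ∈ mon d s, c a ∈ 𝔪
  · refine ⟨r + 1, C, fun T => ?_, hup', fun n T => ?_⟩
    · rw [Nat.cast_succ, add_mul, one_mul]
      refine le_trans (add_le_add (hlo T) le_rfl) ?_
      rw [cnt, Nat.cast_sum, ← Finset.sum_add_distrib]
      refine Finset.sum_le_sum fun t _ => ?_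
      have := col_ge (hPQ t) (hfinP t) (mon d t) (fun a => mono x a • v) (fun a ha => mono_smul_mem_sup x ha)
        (fun a ha c hc => smul_mono_mem x hm ha hc) (hind t)
      linarith
    · have h1 : ∀ t, col (Xn x n ⊔ (Ideal.span (Set.range x)) ^ t • P) ≤
          col (Xn x n ⊔ (Ideal.span (Set.range x)) ^ t • (P ⊔ Submodule.span A {v})) + ((mon d t).filter fun a => a ∈ box d n).card := fun t => by
        refine col_le (sup_le_sup_left (hPQ t) _) (length_quot_ne_top_of_le le_sup_right (hfinP t)) _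
          (fun a => mono x a • v) (fun a ha c hc =>
            Submodule.mem_sup_right (smul_mono_mem x hm (Finset.mem_filter.1 ha).1 hc)) ?_
        refine sup_le (le_sup_left.trans le_sup_left) ((pow_smul_sup_le x t).trans (sup_le (le_sup_right.trans le_sup_left) ?_))
        rw [Submodule.span_le]
        rintro _ ⟨a, ha, rfl⟩
        by_cases hbox : a ∈ box d n
        · exact Submodule.mem_sup_right (Submodule.subset_span ⟨a, Finset.mem_coe.2 (Finset.mem_filter.2 ⟨ha, hbox⟩), rfl⟩)
        · rw [mem_box, not_forall] at hbox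
          obtain ⟨j, hj⟩ := hbox
          exact Submodule.mem_sup_left (Submodule.mem_sup_left (mono_smul_mem_Xn x n (not_lt.1 hj) v))
      have h2 : ((∑ t ∈ Finset.range T, ((mon d t).filter fun a => a ∈ box d n).card : ℕ) : ℤ) ≤ (n : ℤ) ^ d := by
        rw [← Nat.cast_pow, Int.ofNat_le, ← card_box d n]
        exact sum_card_le (fun t a ha => ⟨(Finset.mem_filter.1 ha).2, mem_mon.1 (Finset.mem_filter.1 ha).1⟩) T
      rw [Nat.cast_sum] at h2
      have h3 := Finset.sum_le_sum fun t (_ : t ∈ Finset.range T) => h1 t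
      rw [Finset.sum_add_distrib] at h3
      have h4 := hb n T
      simp only [Finset.sum_sub_distrib] at h4 ⊢
      push_cast
      nlinarith [Int.natCast_nonneg n]
  · simp only [not_forall] at hind
    obtain ⟨s, c, hrel, a, ha, hca⟩ := hind
    obtain ⟨α, hα⟩ := exists_avoid x hm hrel ⟨a, ha, hca⟩
    refine ⟨r, C + ∑ j, α j, fun T => ?_, hup', fun n T => ?_⟩
    · refine (hlo T).trans (Finset.sum_le_sum fun t _ => ?_)
      have := col_eq (hPQ t) (hfinP t)
      have h0 : (0 : ℤ) ≤ ((Module.length A (((Ideal.span (Set.range x)) ^ t • (P ⊔ Submodule.span A {v})).map ((Ideal.span (Set.range x)) ^ t • P).mkQ)).toNat : ℤ) := Int.natCast_nonneg _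
      linarith
    · let S := fun t => ((mon d t).filter fun a => (¬ ∀ j, α j ≤ a j) ∧ a ∈ box d n)
      have h1 : ∀ t, col (Xn x n ⊔ (Ideal.span (Set.range x)) ^ t • P) ≤ col (Xn x n ⊔ (Ideal.span (Set.range x)) ^ t • (P ⊔ Submodule.span A {v})) + (S t).card := fun t => by
        refine col_le (sup_le_sup_left (hPQ t) _) (length_quot_ne_top_of_le le_sup_right (hfinP t)) _
          (fun a => mono x a • v) (fun a ha c hc =>
            Submodule.mem_sup_right (smul_mono_mem x hm (Finset.mem_filter.1 ha).1 hc)) ?_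
        refine sup_le (le_sup_left.trans le_sup_left) ((pow_smul_sup_le x t).trans (sup_le (le_sup_right.trans le_sup_left) ?_))
        rw [Submodule.span_le]
        rintro _ ⟨b, hb, rfl⟩
        revert b hb
        intro b hb
        refine SetLike.le_def.1 (sup_le (le_sup_right.trans le_sup_left) ?_) (hα t b hb)
        rw [Submodule.span_le]
        rintro _ ⟨a, ha, rfl⟩
        obtain ⟨ha, hna⟩ := Finset.mem_filter.1 ha
        by_cases hbox : a ∈ box d n
        · exact Submodule.mem_sup_right (Submodule.subset_span ⟨a, Finset.mem_coe.2 (Finset.mem_filter.2 ⟨ha, hna, hbox⟩), rfl⟩)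
        · rw [mem_box, not_forall] at hbox
          obtain ⟨j, hj⟩ := hbox
          exact Submodule.mem_sup_left (Submodule.mem_sup_left (mono_smul_mem_Xn x n (not_lt.1 hj) v))
      have h2 : ((∑ t ∈ Finset.range T, (S t).card : ℕ) : ℤ) * n ≤ ((∑ j, α j : ℕ) : ℤ) * (n : ℤ) ^ d := by
        rw [← Nat.cast_pow, ← Nat.cast_mul, ← Nat.cast_mul, Int.ofNat_le]
        refine le_trans (Nat.mul_le_mul_right n (sum_card_le (B := (box d n).filter fun b => ¬ ∀ j, α j ≤ b j)
          (fun t a ha => ?_) T)) (card_not_le_mul α n)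
        obtain ⟨h1, h2, h3⟩ := Finset.mem_filter.1 ha
        exact ⟨Finset.mem_filter.2 ⟨h3, h2⟩, mem_mon.1 h1⟩
      rw [Nat.cast_sum] at h2
      have h3 := Finset.sum_le_sum fun t (_ : t ∈ Finset.range T) => h1 t
      rw [Finset.sum_add_distrib] at h3
      have h4 := hb n T
      simp only [Finset.sum_sub_distrib] at h4 ⊢
      push_cast at *
      nlinarith [Int.natCast_nonneg n]

omit [IsNoetherianRing A] in
theorem exists_bounds [IsNoetherianRing A] (hfin : ∀ t, Module.length A (M ⧸ (Ideal.span (Set.range x) ^ t • (⊤ : Submodule A M))) ≠ ⊤) :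
    Bounds x (Ideal.span (Set.range x) • (⊤ : Submodule A M)) := by
  suffices H : ∀ k : ℕ, ∀ P : Submodule A M, Ideal.span (Set.range x) • ⊤ ≤ P → col P = k → Bounds x P from
    H _ _ le_rfl rfl
  intro k
  induction k using Nat.strong_induction_on with
  | _ k ih =>
    intro P hP hk
    by_cases htop : P = ⊤
    · rw [htop]; exact bounds_top x
    · have hPfin : Module.length A (M ⧸ P) ≠ ⊤ :=
        length_quot_ne_top_of_le hP (by have := hfin 1; rwa [pow_one] at this)
      obtain ⟨v, hv, hm⟩ := exists_socle htop hPfin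
      have h1 := col_sup_span hPfin hv hm
      obtain ⟨k', hk'⟩ : ∃ k' : ℕ, col (P ⊔ Submodule.span A {v}) = k' := ⟨_, rfl⟩
      exact bounds_step x hP hfin hv hm (ih k' (by omega) _ (hP.trans le_sup_left) hk')

end GrothLib.KoszulEuler.Lech
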