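import Groth.Agent.Lib.KoszulEuler.Bounds
import Groth.Agent.Lib.KoszulEuler.Filtration
import Groth.Agent.Lib.HilbSam.Filtration
import Groth.Agent.Lib.KoszulMod.Basic

/-! The Samuel multiplicity is the Koszul Euler characteristic. -/

set_option autoImplicit false
set_option linter.style.haveILetI false
set_option linter.unusedSectionVars false

universe u

open CategoryTheory Filter Topology GrothLib.KoszulEuler.Exps GrothLib.KoszulEuler.Lech

namespace GrothLib.KoszulEuler

variable {A : Type u} [CommRing A] [IsNoetherianRing A] {M : Type u} [AddCommGroup M] [Module A M]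
  [Module.Finite A M] {d : ℕ} {x : Fin d → A}

theorem good_of_fl (hfl : IsFiniteLength A (M ⧸ (Ideal.span (Set.range x) • (⊤ : Submodule A M)))) :
    Good (ModuleCat.of A M) (List.ofFn x) := by
  unfold Good; rw [spanL_ofFn]; exact hfl

omit [IsNoetherianRing A] [Module.Finite A M] in
theorem ofList_ofFn (x : Fin d → A) : Ideal.ofList (List.ofFn x) = Ideal.span (Set.range x) := spanL_ofFn x

theorem ln_zero_eq_col (y : Fin d → A) :
    (ln (ModuleCat.of A M) (List.ofFn y) 0 : ℤ) = col (Ideal.span (Set.range y) • (⊤ : Submodule A M)) := by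
  obtain ⟨e⟩ := GrothLib.KoszulMod.nonempty_homology_zero_equiv (ModuleCat.of A M) (List.ofFn y)
  rw [ln, ← length_homology, e.length_eq, ofList_ofFn]
  rfl

theorem neg_natCast_injective : Function.Injective fun i : ℕ => -(i : ℤ) := fun _ _ h =>
  Int.ofNat.inj (neg_injective h)

theorem chi_eq_sum {N : ModuleCat.{u} A} (l : List A) : chi N l =
    ∑ i ∈ Finset.range (l.length + 1), (((-(i : ℤ)).negOnePow : ℤˣ) : ℤ) * (ln N l (-(i : ℤ)) : ℤ) := by
  classical
  rw [chi, finsum_eq_sum_of_support_subset _ (s := (Finset.range (l.length + 1)).image fun i : ℕ => -(i : ℤ)) ?_,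
    Finset.sum_image fun a _ b _ h => neg_natCast_injective h]
  intro i hi
  rw [Function.mem_support] at hi
  rw [Finset.coe_image, Set.mem_image]
  by_contra hne
  refine hi ?_
  rw [ln_eq_zero N l i ?_, Nat.cast_zero, mul_zero]
  by_contra hc
  simp only [not_or, not_lt] at hc
  exact hne ⟨(-i).toNat, Finset.mem_coe.2 (Finset.mem_range.2 (by omega)), by omega⟩

theorem tendsto_col_pow (hfl : IsFiniteLength A (M ⧸ (Ideal.span (Set.range x) • (⊤ : Submodule A M)))) :
    Tendsto (fun n : ℕ => (col (Xn (M := M) x n) : ℝ) / (n : ℝ) ^ d) atTop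
      (𝓝 (chi (ModuleCat.of A M) (List.ofFn x) : ℝ)) := by
  have g := good_of_fl hfl
  haveI : Module.Finite A (ModuleCat.of A M) := ‹Module.Finite A M›
  obtain ⟨c, hc⟩ := exists_poly_bound d x (ModuleCat.of A M) inferInstance g
  let N := ModuleCat.of A M
  let e : ℕ → ℕ → ℝ := fun i n => ((((-((i + 1 : ℕ) : ℤ)).negOnePow : ℤˣ) : ℤ) : ℝ) *
    (ln N (List.ofFn fun j => x j ^ n) (-((i + 1 : ℕ) : ℤ)) : ℝ) / (n : ℝ) ^ d
  have he : ∀ i ∈ Finset.range d, Tendsto (e i) atTop (𝓝 0) := fun i hi => by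
    have hi := Finset.mem_range.1 hi
    refine squeeze_zero_norm' ?_ (tendsto_const_div_atTop_nhds_zero_nat (c : ℝ))
    filter_upwards [eventually_gt_atTop 0] with n hn
    have hu : |(((((-((i + 1 : ℕ) : ℤ)).negOnePow : ℤˣ) : ℤ)) : ℝ)| = 1 := by
      rcases Int.units_eq_one_or ((-((i + 1 : ℕ) : ℤ)).negOnePow) with h | h <;> rw [h] <;> simp
    rw [Real.norm_eq_abs, abs_div, abs_mul, hu, one_mul, Nat.abs_cast, abs_pow, Nat.abs_cast,
      div_le_div_iff₀ (by positivity) (by positivity)]
    have h1 : ln N (List.ofFn fun j => x j ^ n) (-((i + 1 : ℕ) : ℤ)) * n ≤ c * n ^ d :=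
      calc _ ≤ c * n ^ (d - (i + 1)) * n := Nat.mul_le_mul_right _ (hc n hn (i + 1) hi)
        _ = c * n ^ (d - (i + 1) + 1) := by rw [mul_assoc, pow_succ]
        _ ≤ c * n ^ d := Nat.mul_le_mul_left _ (Nat.pow_le_pow_right hn (by omega))
    exact_mod_cast h1
  have hsum : Tendsto (fun n => (chi N (List.ofFn x) : ℝ) - ∑ i ∈ Finset.range d, e i n) atTop
      (𝓝 ((chi N (List.ofFn x) : ℝ) - ∑ _i ∈ Finset.range d, 0)) :=
    tendsto_const_nhds.sub (tendsto_finsetSum _ he)
  rw [Finset.sum_const_zero, sub_zero] at hsum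
  refine hsum.congr' ?_
  filter_upwards [eventually_gt_atTop 0] with n hn
  obtain ⟨-, h2⟩ := chi_pow (M := N) d x (fun _ => n) [] g
  rw [List.nil_append, List.nil_append, Finset.prod_const, Finset.card_univ, Fintype.card_fin, chi_eq_sum,
    List.length_ofFn, Finset.sum_range_succ'] at h2
  rw [Nat.cast_zero, neg_zero, Int.negOnePow_zero, Units.val_one, one_mul, show (ln N _ 0 : ℤ) = _ from ln_zero_eq_col (M := M) fun j => x j ^ n] at h2
  have h3 := congrArg (Int.cast (R := ℝ)) h2
  push_cast at h3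
  have hn' : (n : ℝ) ^ d ≠ 0 := by positivity
  simp only [e, ← Finset.sum_div]
  rw [eq_div_iff hn', sub_mul, div_mul_cancel₀ _ hn']
  push_cast
  linarith

variable [IsLocalRing A]

theorem fl_pow (hfl : IsFiniteLength A (M ⧸ (Ideal.span (Set.range x) • (⊤ : Submodule A M)))) (t : ℕ) :
    Module.length A (M ⧸ (Ideal.span (Set.range x) ^ t • (⊤ : Submodule A M))) ≠ ⊤ :=
  GrothLib.HilbSam.isFiniteLength_quotient hfl t

theorem col_top : col (⊤ : Submodule A M) = 0 := by
  haveI : Subsingleton (M ⧸ (⊤ : Submodule A M)) := Submodule.Quotient.subsingleton_iff.2 rfl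
  rw [col, Module.length_eq_zero]; rfl

theorem sum_col_sub (T : ℕ) : ∑ t ∈ Finset.range T,
    (col (Ideal.span (Set.range x) ^ t • (Ideal.span (Set.range x) • (⊤ : Submodule A M))) -
      col (Ideal.span (Set.range x) ^ t • (⊤ : Submodule A M))) = col (Ideal.span (Set.range x) ^ T • (⊤ : Submodule A M)) := by
  rw [Finset.sum_congr rfl fun t _ => by rw [← mul_smul, ← pow_succ],
    Finset.sum_range_sub (fun t => col (Ideal.span (Set.range x) ^ t • (⊤ : Submodule A M))), pow_zero, one_smul,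
    col_top, sub_zero]

theorem sum_col_sub_sup (W : Submodule A M) (T : ℕ) : ∑ t ∈ Finset.range T,
    (col (W ⊔ Ideal.span (Set.range x) ^ t • (Ideal.span (Set.range x) • (⊤ : Submodule A M))) -
      col (W ⊔ Ideal.span (Set.range x) ^ t • (⊤ : Submodule A M))) =
      col (W ⊔ Ideal.span (Set.range x) ^ T • (⊤ : Submodule A M)) := by
  rw [Finset.sum_congr rfl fun t _ => by rw [← mul_smul, ← pow_succ],
    Finset.sum_range_sub (fun t => col (W ⊔ Ideal.span (Set.range x) ^ t • (⊤ : Submodule A M))), pow_zero, one_smul,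
    sup_top_eq, col_top, sub_zero]

omit [IsNoetherianRing A] [Module.Finite A M] [IsLocalRing A] in
theorem pow_smul_le_Xn {n T : ℕ} (h : d * n < T) :
    Ideal.span (Set.range x) ^ T • (⊤ : Submodule A M) ≤ Xn x n := by
  refine (Submodule.smul_mono_left (pow_span_le x T)).trans (Submodule.smul_le.2 fun r hr v _ => ?_)
  induction hr using Submodule.span_induction with
  | mem r hr =>
    obtain ⟨a, ha, rfl⟩ := hr
    obtain ⟨j, hj⟩ := exists_big h ha
    exact mono_smul_mem_Xn x n hj v
  | zero => rw [zero_smul]; exact zero_mem _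
  | add r s _ _ h1 h2 => rw [add_smul]; exact add_mem h1 h2
  | smul a r _ h1 => rw [smul_assoc]; exact Submodule.smul_mem _ a h1

/-- Lech's formula and Serre's equality. -/
theorem lech (hfl : IsFiniteLength A (M ⧸ (Ideal.span (Set.range x) • (⊤ : Submodule A M)))) :
    ∃ L : ℝ, Tendsto (fun T : ℕ => (col (Ideal.span (Set.range x) ^ T • (⊤ : Submodule A M)) : ℝ) / (T : ℝ) ^ d) atTop (𝓝 L) ∧
      (chi (ModuleCat.of A M) (List.ofFn x) : ℝ) = (d.factorial : ℝ) * L := by
  obtain ⟨P, hPd, hP⟩ := GrothLib.HilbSam.exists_polynomial_le_span (I := Ideal.span (Set.range x)) rfl hfl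
  have hL : Tendsto (fun T : ℕ => (col (Ideal.span (Set.range x) ^ T • (⊤ : Submodule A M)) : ℝ) / (T : ℝ) ^ d)
      atTop (𝓝 (P.coeff d : ℝ)) := by
    refine (GrothLib.HilbSam.tendsto_eval_div_pow P hPd).congr' ?_
    filter_upwards [hP] with T hT
    rw [← hT]
    push_cast
    rfl
  refine ⟨_, hL, le_antisymm ?_ ?_⟩
  · obtain ⟨r, C, hlo, -, hb⟩ := exists_bounds x (fl_pow hfl)
    simp only [sum_col_sub, sum_col_sub_sup] at hlo hb
    have h1 : (r : ℝ) * (1 / (d.factorial : ℝ)) ≤ (P.coeff d : ℝ) := by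
      refine le_of_tendsto_of_tendsto' ((tendsto_cnt d).const_mul (r : ℝ)) hL fun T => ?_
      rw [← mul_div_assoc]
      gcongr
      exact_mod_cast hlo T
    have h2 : (chi (ModuleCat.of A M) (List.ofFn x) : ℝ) ≤ r := by
      refine le_of_tendsto_of_tendsto (tendsto_col_pow hfl)
        (g := fun n : ℕ => (r : ℝ) + (C : ℝ) / n) ?_ ?_
      · simpa using tendsto_const_nhds.add (tendsto_const_div_atTop_nhds_zero_nat (C : ℝ))
      filter_upwards [eventually_gt_atTop 0] with n hn
      have h3 := hb n (d * n + 1)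
      rw [sup_eq_left.2 (pow_smul_le_Xn (Nat.lt_succ_self _))] at h3
      have h4 : (n : ℝ) * (col (Xn (M := M) x n) : ℝ) ≤ ((r : ℝ) * n + C) * (n : ℝ) ^ d := by exact_mod_cast h3
      have hn' : (0 : ℝ) < n := by exact_mod_cast hn
      rw [div_le_iff₀ (by positivity)]
      calc (col (Xn (M := M) x n) : ℝ) = (n : ℝ) * (col (Xn (M := M) x n) : ℝ) / n := by field_simp
        _ ≤ ((r : ℝ) * n + C) * (n : ℝ) ^ d / n := by gcongr
        _ = _ := by field_simp
    refine h2.trans ?_
    rwa [mul_one_div, div_le_iff₀ (by positivity), mul_comm] at h1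
  · rw [← le_div_iff₀' (by positivity)]
    refine ge_of_tendsto ((tendsto_col_pow hfl).div_const _) ?_
    filter_upwards [eventually_gt_atTop 0] with n hn
    have g := good_pows (good_of_fl hfl) n
    have hfl' : IsFiniteLength A (M ⧸ (Ideal.span (Set.range fun j => x j ^ n) • (⊤ : Submodule A M))) := by
      unfold Good at g; rwa [spanL_ofFn] at g
    obtain ⟨r, C, -, hup, -⟩ := exists_bounds (fun j => x j ^ n) (fl_pow hfl')
    simp only [sum_col_sub] at hup
    have hcomp := hL.comp (tendsto_id.atTop_mul_const' (Nat.pos_of_ne_zero hn.ne') : Tendsto (fun T : ℕ => T * n) atTop atTop)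
    have hrhs : Tendsto (fun T : ℕ => (col (Xn (M := M) x n) : ℝ) / (n : ℝ) ^ d * ((cnt d T : ℝ) / (T : ℝ) ^ d)) atTop
        (𝓝 ((col (Xn (M := M) x n) : ℝ) / (n : ℝ) ^ d * (1 / (d.factorial : ℝ)))) := (tendsto_cnt d).const_mul _
    rw [mul_one_div] at hrhs
    refine le_of_tendsto_of_tendsto' hcomp hrhs fun T => ?_
    simp only [Function.comp_apply]
    rw [div_mul_div_comm, Nat.cast_mul, mul_pow, mul_comm ((T : ℝ) ^ d)]
    gcongr
    have hmono : col (Ideal.span (Set.range x) ^ (T * n) • (⊤ : Submodule A M)) ≤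
        col (Ideal.span (Set.range fun j => x j ^ n) ^ T • (⊤ : Submodule A M)) := by
      refine Int.ofNat_le.2 (ENat.toNat_le_toNat (Module.length_le_of_surjective _ (Submodule.factor_surjective
        (Submodule.smul_mono_left ?_))) (fl_pow hfl' T))
      rw [mul_comm, pow_mul]
      refine Ideal.pow_right_mono ?_ T
      rw [Ideal.span_le]
      rintro _ ⟨j, rfl⟩
      exact Ideal.pow_mem_pow (Ideal.subset_span (Set.mem_range_self j)) n
    exact_mod_cast hmono.trans (hup T)

theorem tendsto_samuel (hfl : IsFiniteLength A (M ⧸ (Ideal.span (Set.range x) • (⊤ : Submodule A M)))) :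
    Tendsto (fun T : ℕ => (d.factorial : ℝ) *
        ((Module.length A (M ⧸ (Ideal.span (Set.range x) ^ T • (⊤ : Submodule A M)))).toNat : ℝ) / (T : ℝ) ^ d)
      atTop (𝓝 (chi (ModuleCat.of A M) (List.ofFn x) : ℝ)) := by
  obtain ⟨L, hL, e⟩ := lech hfl
  rw [e]
  refine (hL.const_mul _).congr fun T => ?_
  simp only [col, Int.cast_natCast, mul_div_assoc]

end GrothLib.KoszulEuler
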