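import Groth.Agent.Lib.KoszulEuler.Exact
import Groth.Agent.Lib.KoszulMod.Basic
import Groth.Agent.Lib.DCxKFlat.Balance
import Groth.Agent.Lib.DCxRing.ToSingle
import Groth.Prelude.Def_IntMult
import Mathlib.RingTheory.Regular.RegularSequence

/-! `Tor` against a complete intersection is Koszul homology. -/

set_option autoImplicit false
set_option linter.style.haveILetI false
set_option maxHeartbeats 800000

universe u

open CategoryTheory CategoryTheory.Limits MonoidalCategory HomologicalComplex GrothLib.KoszulMod RingTheory.Sequence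

attribute [local instance] HasDerivedCategory.standard

namespace GrothLib.KoszulEuler

variable {A : Type u} [CommRing A]

theorem projective_X : ∀ (l : List A) (i : ℤ),
    Module.Projective A ((CohIII.koszulCx (ModuleCat.of A A) l).X i)
  | [], i => by
    by_cases h : i = 0
    · subst h
      exact Module.Projective.of_equiv (R := A)
        (HomologicalComplex.singleObjXSelf (ComplexShape.up ℤ) 0 (ModuleCat.of A A)).toLinearEquiv.symm
    · haveI := ModuleCat.subsingleton_of_isZero (isZero_out (ModuleCat.of A A) [] i (by simp; omega))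
      infer_instance
  | f :: l, i => by
    haveI := projective_X l (i + 1)
    haveI := projective_X l i
    let K := CohIII.koszulCx (ModuleCat.of A A) l
    refine Module.Projective.of_equiv (R := A) (M := K.X (i + 1) × K.X i)
      (LinearEquiv.ofBijective ((i₁ K f i (i + 1) rfl).hom.coprod (i₂ K f i).hom)
        ⟨fun a b h => ?_, fun x => ⟨((p₁ K f i (i + 1) rfl).hom x, (p₂ K f i).hom x), (decomp K f i (i + 1) rfl x).symm⟩⟩)
    have h1 := congrArg (p₁ K f i (i + 1) rfl).hom h
    have h2 := congrArg (p₂ K f i).hom h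
    simp only [LinearMap.coprod_apply, map_add, p₁_i₁, p₁_i₂, p₂_i₁, p₂_i₂, add_zero, zero_add] at h1 h2
    exact Prod.ext h1 h2

theorem isKFlat_koszulCx (l : List A) : GrothLib.KF.IsKFlat (CohIII.koszulCx (ModuleCat.of A A) l) :=
  GrothLib.KF.isKFlat_of_vanishesAbove (b := 0)
    (fun i hi => isZero_out (ModuleCat.of A A) l i (Or.inl hi))
    (GrothLib.DR.termwiseFlat_of_projective (projective_X l))

/-- The Koszul complex of a regular sequence resolves the quotient. -/
theorem exists_quasiIso (l : List A) (hl : IsWeaklyRegular A l) :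
    ∃ q : CohIII.koszulCx (ModuleCat.of A A) l ⟶
      (single (ModuleCat.{u} A) (ComplexShape.up ℤ) 0).obj (ModuleCat.of A (A ⧸ Ideal.ofList l)), QuasiIso q := by
  obtain ⟨π, hπ, hker⟩ := exists_augmentation (ModuleCat.of A A) l
  let K := CohIII.koszulCx (ModuleCat.of A A) l
  let e : (A ⧸ (Ideal.ofList l • (⊤ : Submodule A A))) ≃ₗ[A] A ⧸ Ideal.ofList l :=
    Submodule.quotEquivOfEq _ _ (by rw [Ideal.smul_eq_mul, Ideal.mul_top])
  let g : K.X 0 →ₗ[A] A ⧸ Ideal.ofList l := e.toLinearMap ∘ₗ π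
  have hg : ∀ x, g ((K.d (0 - 1) 0).hom x) = 0 := fun x => by
    show e (π _) = 0
    rw [LinearEquiv.map_eq_zero_iff, ← LinearMap.mem_ker, hker, show (-1 : ℤ) = 0 - 1 by norm_num]
    exact LinearMap.mem_range_self _ x
  refine ⟨GrothLib.DR.toSingleMap K 0 g hg, ⟨fun j => ?_⟩⟩
  rw [quasiIsoAt_iff_isIso_homologyMap]
  by_cases hj : j = 0
  · subst hj
    haveI : Mono (homologyMap (GrothLib.DR.toSingleMap K 0 g hg) 0) := by
      rw [ModuleCat.mono_iff_injective, injective_iff_map_eq_zero]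
      intro z hz
      obtain ⟨c, rfl⟩ := (ModuleCat.epi_iff_surjective (K.homologyπ 0)).1 inferInstance z
      rw [GrothLib.DR.toSingleMap_homology_iff, show g (K.iCycles 0 c) = e (π (K.iCycles 0 c)) from rfl,
        LinearEquiv.map_eq_zero_iff, ← LinearMap.mem_ker, hker] at hz
      obtain ⟨w, hw⟩ := hz
      have h2 : (K.toCycles (-1) 0).hom w = c := (ModuleCat.mono_iff_injective (K.iCycles 0)).1 inferInstance
        ((ConcreteCategory.congr_hom (K.toCycles_i (-1) 0) w).trans hw)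
      rw [← h2]
      exact ConcreteCategory.congr_hom (K.toCycles_comp_homologyπ (-1) 0) w
    haveI : Epi (homologyMap (GrothLib.DR.toSingleMap K 0 g hg) 0) := by
      rw [ModuleCat.epi_iff_surjective]
      intro z
      let S := (single (ModuleCat.{u} A) (ComplexShape.up ℤ) 0).obj (ModuleCat.of A (A ⧸ Ideal.ofList l))
      obtain ⟨s, rfl⟩ := (ModuleCat.epi_iff_surjective (S.homologyπ 0)).1 inferInstance z
      obtain ⟨t, ht⟩ : ∃ t, (singleObjXSelf (ComplexShape.up ℤ) 0 (ModuleCat.of A (A ⧸ Ideal.ofList l))).inv t =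
          S.iCycles 0 s := ⟨(singleObjXSelf (ComplexShape.up ℤ) 0 (ModuleCat.of A (A ⧸ Ideal.ofList l))).hom (S.iCycles 0 s),
            Iso.hom_inv_id_apply _ _⟩
      obtain ⟨x, hx⟩ := (e.surjective.comp hπ) t
      obtain ⟨c, hc⟩ := GrothLib.DR.exists_cycle K 0 x (eq_zero_out _ _ _ (Or.inl (by norm_num)) _)
      refine ⟨K.homologyπ 0 c, ?_⟩
      refine (ConcreteCategory.congr_hom (homologyπ_naturality (GrothLib.DR.toSingleMap K 0 g hg) 0) c).trans ?_
      refine congrArg (S.homologyπ 0) ((ModuleCat.mono_iff_injective (S.iCycles 0)).1 inferInstance ?_)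
      refine (ConcreteCategory.congr_hom (cyclesMap_i (GrothLib.DR.toSingleMap K 0 g hg) 0) c).trans ?_
      show (GrothLib.DR.toSingleMap K 0 g hg).f 0 (K.iCycles 0 c) = _
      rw [hc, ← ht, GrothLib.DR.toSingleMap, mkHomToSingle_f]
      show _ = _
      rw [← hx]
      rfl
    exact isIso_of_mono_of_epi _
  · exact ⟨0, (isZero_homology_of_isWeaklyRegular (ModuleCat.of A A) l hl j hj).eq_of_src _ _,
      ((exactAt_iff_isZero_homology _ _).1 (exactAt_single_obj _ _ _ _ hj)).eq_of_src _ _⟩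

/-- Balancing, on homology. -/
theorem nonempty_tensor_swap {P Q : DRing.Cx A} {M N : ModuleCat.{u} A}
    (q : P ⟶ (single (ModuleCat.{u} A) (ComplexShape.up ℤ) 0).obj M)
    (q' : Q ⟶ (single (ModuleCat.{u} A) (ComplexShape.up ℤ) 0).obj N)
    [QuasiIso q] [QuasiIso q'] (hP : GrothLib.KF.IsKFlat P) (hQ : GrothLib.KF.IsKFlat Q) (i : ℤ) :
    Nonempty ((DRing.tensorCx P N).homology i ≅ (DRing.tensorCx Q M).homology i) := by
  haveI : QuasiIso (((GrothLib.KF.tensorCx (R := A)).obj P).map q') := GrothLib.KF.quasiIso_tensor_map_of_isKFlat q' P hP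
  haveI : QuasiIso (((GrothLib.KF.tensorCx (R := A)).obj Q).map q) := GrothLib.KF.quasiIso_tensor_map_of_isKFlat q Q hQ
  exact ⟨(homologyFunctor _ _ i).mapIso (GrothLib.KF.singleIso P N) ≪≫
    (isoOfQuasiIsoAt (((GrothLib.KF.tensorCx (R := A)).obj P).map q') i).symm ≪≫
    (homologyFunctor _ _ i).mapIso (GrothLib.KF.tensorCxSymm Q P) ≪≫
    isoOfQuasiIsoAt (((GrothLib.KF.tensorCx (R := A)).obj Q).map q) i ≪≫
    ((homologyFunctor _ _ i).mapIso (GrothLib.KF.singleIso Q M)).symm⟩

/-- `Tor` in positive degree from a resolution of the second variable. -/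
theorem nonempty_tor_iso (M : Type u) [AddCommGroup M] [Module A M] {N : Type u} [AddCommGroup N]
    [Module A N] (P : ProjectiveResolution (ModuleCat.of A N)) (p : ℕ) :
    Nonempty ((DRing.tensorCx P.cochainComplex (ModuleCat.of A M)).homology (-((p + 1 : ℕ) : ℤ)) ≅
      ((CategoryTheory.Tor (ModuleCat.{u} A) (p + 1)).obj (ModuleCat.of A M)).obj (ModuleCat.of A N)) := by
  let F := tensorLeft (ModuleCat.of A M)
  let C := (F.mapHomologicalComplex (ComplexShape.down ℕ)).obj P.complex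
  let D := DRing.tensorCx P.cochainComplex (ModuleCat.of A M)
  let τ : ∀ (n : ℤ) (k : ℕ), -(k : ℤ) = n → (D.X n ≅ C.X k) := fun n k h =>
    (tensorRight (ModuleCat.of A M)).mapIso (P.cochainComplexXIso n k h) ≪≫ β_ (P.complex.X k) (ModuleCat.of A M)
  have hτ : ∀ (n₁ n₂ : ℤ) (k₁ k₂ : ℕ) (h₁ : -(k₁ : ℤ) = n₁) (h₂ : -(k₂ : ℤ) = n₂),
      (τ n₁ k₁ h₁).hom ≫ C.d k₁ k₂ = D.d n₁ n₂ ≫ (τ n₂ k₂ h₂).hom := by
    intro n₁ n₂ k₁ k₂ h₁ h₂
    change ((P.cochainComplexXIso n₁ k₁ h₁).hom ▷ ModuleCat.of A M ≫ (β_ _ _).hom) ≫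
        ModuleCat.of A M ◁ P.complex.d k₁ k₂ =
      P.cochainComplex.d n₁ n₂ ▷ ModuleCat.of A M ≫
        ((P.cochainComplexXIso n₂ k₂ h₂).hom ▷ ModuleCat.of A M ≫ (β_ _ _).hom)
    rw [P.cochainComplex_d n₁ n₂ k₁ k₂ h₁ h₂]
    simp only [comp_whiskerRight, Category.assoc, inv_hom_whiskerRight_assoc]
    rw [← BraidedCategory.braiding_naturality_left]
  exact ⟨D.homologyIsoSc' (-((p + 2 : ℕ) : ℤ)) (-((p + 1 : ℕ) : ℤ)) (-(p : ℤ)) (by simp; omega) (by simp) ≪≫
    ShortComplex.homologyMapIso (ShortComplex.isoMk (τ _ (p + 2) rfl) (τ _ (p + 1) rfl) (τ _ p rfl)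
      (hτ _ _ _ _ rfl rfl) (hτ _ _ _ _ rfl rfl)) ≪≫
    (C.homologyIsoSc' (p + 2) (p + 1) p (by simp) (by simp)).symm ≪≫ (P.isoLeftDerivedObj F (p + 1)).symm⟩

/-- `Tor₀` is the tensor product. -/
noncomputable def torZeroEquiv (M N : Type u) [AddCommGroup M] [Module A M] [AddCommGroup N] [Module A N] :
    DRing.Tor A 0 M N ≃ₗ[A] TensorProduct A M N :=
  ((Functor.leftDerivedZeroIsoSelf ((tensoringLeft (ModuleCat.{u} A)).obj (ModuleCat.of A M))).app
    (ModuleCat.of A N)).toLinearEquiv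

/-- The lengths agree. -/
theorem length_tor_eq (l : List A) (hl : IsWeaklyRegular A l) (N : Type u) [AddCommGroup N] [Module A N] (i : ℕ) :
    Module.length A (DRing.Tor A i (A ⧸ Ideal.ofList l) N) =
      Module.length A (HQ (CohIII.koszulCx (ModuleCat.of A N) l) (-(i : ℤ))) := by
  rw [← length_homology]
  rcases i with _ | p
  · obtain ⟨e⟩ := nonempty_homology_zero_equiv (ModuleCat.of A N) l
    rw [Nat.cast_zero, neg_zero, e.length_eq]
    exact (torZeroEquiv (A ⧸ Ideal.ofList l) N ≪≫ₗ TensorProduct.quotTensorEquivQuotSMul N (Ideal.ofList l)).length_eq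
  · obtain ⟨q, hq⟩ := exists_quasiIso l hl
    let P := projectiveResolution (ModuleCat.of A N)
    obtain ⟨e₁⟩ := nonempty_tor_iso (A ⧸ Ideal.ofList l) P p
    obtain ⟨e₂⟩ := @nonempty_tensor_swap _ _ _ _ _ _ q P.π' hq (inferInstanceAs (QuasiIso P.π')) (isKFlat_koszulCx l)
      (GrothLib.KF.isKFlat_cochainComplex P) (-((p + 1 : ℕ) : ℤ))
    obtain ⟨e₃⟩ := nonempty_tensor_iso (ModuleCat.of A N) l
    obtain ⟨e₄⟩ := nonempty_tensor_iso (ModuleCat.of A A) l
    let e₅ : DRing.tensorCx (CohIII.koszulCx (ModuleCat.of A A) l) (ModuleCat.of A N) ≅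
        CohIII.koszulCx (ModuleCat.of A N) l :=
      (tensorM (ModuleCat.of A N)).mapIso (e₄.symm ≪≫ GrothLib.KF.tensorCxUnitIso (Koszul.koszul A l)) ≪≫ e₃
    exact (e₁.symm ≪≫ e₂.symm ≪≫ (homologyFunctor _ _ _).mapIso e₅).toLinearEquiv.length_eq

/-- The Tor Euler characteristic is the Koszul one. -/
theorem intMult_chi_eq (l : List A) (hl : IsWeaklyRegular A l) (N : Type u) [AddCommGroup N] [Module A N] :
    IntMult.chi A (A ⧸ Ideal.ofList l) N = chi (ModuleCat.of A N) l := by
  classical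
  have h0 : ∀ i : ℕ, l.length < i → Module.length A (HQ (CohIII.koszulCx (ModuleCat.of A N) l) (-(i : ℤ))) = 0 :=
    fun i hi => by
      haveI := subsingleton_HQ (ModuleCat.of A N) l (-(i : ℤ)) (Or.inr (by omega))
      exact Module.length_eq_zero
  rw [IntMult.chi, finsum_eq_sum_of_support_subset _ (s := Finset.range (l.length + 1)) ?_, chi,
    finsum_eq_sum_of_support_subset _ (s := (Finset.range (l.length + 1)).image fun i : ℕ => -(i : ℤ)) ?_,
    Finset.sum_image (g := fun i : ℕ => -(i : ℤ)) fun a _ b _ (h : -(a : ℤ) = -(b : ℤ)) => by omega]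
  · refine Finset.sum_congr rfl fun i _ => ?_
    rw [length_tor_eq l hl N i, Int.negOnePow_neg, ← Int.coe_negOnePow_natCast]
    rfl
  · intro i hi
    rw [Function.mem_support] at hi
    rw [Finset.coe_image, Set.mem_image]
    by_contra hne
    refine hi ?_
    rw [ln_eq_zero _ l i ?_, Nat.cast_zero, mul_zero]
    by_contra hc
    simp only [not_or, not_lt] at hc
    exact hne ⟨(-i).toNat, Finset.mem_coe.2 (Finset.mem_range.2 (by omega)), by omega⟩
  · intro i hi
    rw [Function.mem_support] at hi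
    refine Finset.mem_coe.2 (Finset.mem_range.2 ?_)
    by_contra hc
    exact hi (by rw [length_tor_eq l hl N i, h0 i (by omega)]; simp)

end GrothLib.KoszulEuler

namespace GrothLib.KoszulEuler

variable {A : Type u} [CommRing A]

/-- `Tor` is symmetric, on lengths. -/
theorem length_tor_comm (M N : Type u) [AddCommGroup M] [Module A M] [AddCommGroup N] [Module A N] (i : ℕ) :
    Module.length A (DRing.Tor A i M N) = Module.length A (DRing.Tor A i N M) := by
  rcases i with _ | p
  · exact (torZeroEquiv M N ≪≫ₗ TensorProduct.comm A M N ≪≫ₗ (torZeroEquiv N M).symm).length_eq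
  · let P := projectiveResolution (ModuleCat.of A M)
    let Q := projectiveResolution (ModuleCat.of A N)
    obtain ⟨e₁⟩ := nonempty_tor_iso M Q p
    obtain ⟨e₂⟩ := nonempty_tor_iso N P p
    obtain ⟨e₃⟩ := @nonempty_tensor_swap _ _ _ _ _ _ Q.π' P.π' (inferInstanceAs (QuasiIso Q.π'))
      (inferInstanceAs (QuasiIso P.π')) (GrothLib.KF.isKFlat_cochainComplex Q)
      (GrothLib.KF.isKFlat_cochainComplex P) (-((p + 1 : ℕ) : ℤ))
    exact (e₁.symm ≪≫ e₃ ≪≫ e₂).toLinearEquiv.length_eq

/-- Symmetry of the Tor Euler characteristic. -/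
theorem intMult_chi_comm (M N : Type u) [AddCommGroup M] [Module A M] [AddCommGroup N] [Module A N] :
    IntMult.chi A M N = IntMult.chi A N M :=
  finsum_congr fun i => by rw [length_tor_comm M N i]

end GrothLib.KoszulEuler
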