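import Groth.Prelude.Def_Koszul
import Groth.Prelude.Def_DRing2
import Groth.Prelude.Def_ega3
import Mathlib.Algebra.Homology.HomotopyCategory.MappingCone

/-! `K(l) ⊗ M` is the iterated cone complex on `M`. -/

universe u

open CategoryTheory CategoryTheory.Limits CochainComplex MonoidalCategory

namespace GrothLib.KoszulEuler

variable {A : Type u} [CommRing A]

/-- Termwise tensoring with `M`. -/
noncomputable abbrev tensorM (M : ModuleCat.{u} A) :
    CochainComplex (ModuleCat.{u} A) ℤ ⥤ CochainComplex (ModuleCat.{u} A) ℤ :=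
  (tensorRight M).mapHomologicalComplex (ComplexShape.up ℤ)

theorem nonempty_tensor_iso (M : ModuleCat.{u} A) : ∀ l : List A,
    Nonempty (DRing.tensorCx (Koszul.koszul A l) M ≅ CohIII.koszulCx M l)
  | [] => ⟨(HomologicalComplex.singleMapHomologicalComplex (tensorRight M) (ComplexShape.up ℤ) 0).app _ ≪≫
      (HomologicalComplex.single (ModuleCat.{u} A) (ComplexShape.up ℤ) 0).mapIso (λ_ M)⟩
  | f :: l => by
    obtain ⟨e⟩ : Nonempty ((tensorM M).obj (Koszul.koszul A l) ≅ CohIII.koszulCx M l) := nonempty_tensor_iso M l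
    let φ := f • 𝟙 (Koszul.koszul A l)
    have hφ : (tensorM M).map φ = f • 𝟙 ((tensorM M).obj (Koszul.koszul A l)) := by
      rw [Functor.map_smul, CategoryTheory.Functor.map_id]
    let h1 := mappingCone.mapHomologicalComplexIso φ (tensorRight M)
    let ψ : mappingCone ((tensorM M).map φ) ≅ mappingCone (f • 𝟙 (CohIII.koszulCx M l)) :=
      { hom := mappingCone.map _ _ e.hom e.hom (by rw [hφ, Linear.smul_comp, Linear.comp_smul, Category.id_comp, Category.comp_id])
        inv := mappingCone.map _ _ e.inv e.inv (by rw [hφ, Linear.smul_comp, Linear.comp_smul, Category.id_comp, Category.comp_id])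
        hom_inv_id := by simp [← mappingCone.map_comp, mappingCone.map_id]
        inv_hom_id := by simp [← mappingCone.map_comp, mappingCone.map_id] }
    exact ⟨h1 ≪≫ ψ⟩

/-- Homology of `K(l) ⊗ M` as homology of the cone complex. -/
theorem nonempty_homology_iso (M : ModuleCat.{u} A) (l : List A) (i : ℤ) :
    Nonempty ((DRing.tensorCx (Koszul.koszul A l) M).homology i ≅ (CohIII.koszulCx M l).homology i) :=
  (nonempty_tensor_iso M l).elim fun e =>
    ⟨(HomologicalComplex.homologyFunctor _ _ i).mapIso e⟩

end GrothLib.KoszulEuler
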