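import Groth.Agent.Lib.KoszulEuler.Euler
import Groth.Agent.Lib.KoszulEuler.Iso
import Groth.Agent.Lib.KoszulTensor.Split
import Mathlib.Algebra.Homology.HomologySequence
import Mathlib.Algebra.Homology.HomologicalComplexAbelian
import Mathlib.Algebra.Homology.ShortComplex.Linear

/-! Exactness in the module, rotations, and the bridge to `K(l) ⊗ M`. -/

set_option linter.style.haveILetI false

universe u

open CategoryTheory CategoryTheory.Limits CochainComplex GrothLib.KoszulMod LinearMap

namespace GrothLib.KoszulEuler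

variable {A : Type u} [CommRing A]

theorem length_tensor (M : ModuleCat.{u} A) (l : List A) (i : ℤ) :
    Module.length A ((DRing.tensorCx (Koszul.koszul A l) M).homology i) =
      Module.length A (HQ (CohIII.koszulCx M l) i) :=
  (nonempty_homology_iso M l i).elim fun e => e.toLinearEquiv.length_eq.trans (length_homology _ i)

/-- The Euler characteristic as written with `K(l) ⊗ M`. -/
theorem chi_eq (M : ModuleCat.{u} A) (l : List A) :
    (∑ᶠ i : ℤ, ((i.negOnePow : ℤˣ) : ℤ) *
      ((Module.length A ((DRing.tensorCx (Koszul.koszul A l) M).homology i)).toNat : ℤ)) = chi M l :=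
  finsum_congr fun i => by rw [length_tensor]; rfl

theorem ln_swap (M : ModuleCat.{u} A) (f g : List A) (i : ℤ) : ln M (f ++ g) i = ln M (g ++ f) i := by
  obtain ⟨e⟩ := GrothLib.KoszulTensor.nonempty_swap f g
  rw [ln, ln, ← length_tensor, ← length_tensor]
  exact congrArg ENat.toNat
    ((HomologicalComplex.homologyFunctor _ _ i).mapIso ((tensorM M).mapIso e)).toLinearEquiv.length_eq

theorem chi_swap (M : ModuleCat.{u} A) (f g : List A) : chi M (f ++ g) = chi M (g ++ f) :=
  finsum_congr fun i => by rw [ln_swap]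

variable {M M' M'' : ModuleCat.{u} A} (f : M ⟶ M') (g : M' ⟶ M'')

theorem kmap_nil (x : (CohIII.koszulCx M ([] : List A)).X 0) :
    (HomologicalComplex.singleObjXSelf (ComplexShape.up ℤ) 0 M').hom.hom (((kmap f []).f 0).hom x) =
      f.hom ((HomologicalComplex.singleObjXSelf (ComplexShape.up ℤ) 0 M).hom.hom x) := by
  have hs := HomologicalComplex.single_map_f_self (ComplexShape.up ℤ) (0 : ℤ) f
  change (HomologicalComplex.singleObjXSelf (ComplexShape.up ℤ) 0 M').hom.hom
    ((((HomologicalComplex.single (ModuleCat.{u} A) (ComplexShape.up ℤ) 0).map f).f 0).hom x) = _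
  rw [hs]
  exact (HomologicalComplex.singleObjXSelf (ComplexShape.up ℤ) 0 M').inv_hom_id_apply _

theorem kmap_injective (hf : Function.Injective f.hom) : ∀ (l : List A) (i : ℤ),
    Function.Injective ((kmap f l).f i).hom
  | [], i => fun x y h => by
    by_cases hi : i = 0
    · subst hi
      let e := (HomologicalComplex.singleObjXSelf (ComplexShape.up ℤ) 0 M).toLinearEquiv
      exact e.injective (hf ((kmap_nil f x).symm.trans ((congrArg _ h).trans (kmap_nil f y))))
    · exact (eq_zero_out M [] i (by simp; omega) x).trans (eq_zero_out M [] i (by simp; omega) y).symm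
  | a :: l, i => fun (x : (cone (CohIII.koszulCx M l) a).X i) y h =>
    cone_ext _ _ i (i + 1) rfl
      (kmap_injective hf l (i + 1) ((p₁_kmap f a l i (i + 1) rfl x).symm.trans
        ((congrArg _ h).trans (p₁_kmap f a l i (i + 1) rfl y))))
      (kmap_injective hf l i ((p₂_kmap f a l i x).symm.trans ((congrArg _ h).trans (p₂_kmap f a l i y))))

theorem kmap_exact (hfg : Function.Exact f.hom g.hom) : ∀ (l : List A) (i : ℤ),
    Function.Exact ((kmap f l).f i).hom ((kmap g l).f i).hom
  | [], i => fun x => by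
    by_cases hi : i = 0
    · subst hi
      let e := (HomologicalComplex.singleObjXSelf (ComplexShape.up ℤ) 0 M).toLinearEquiv
      let e' := (HomologicalComplex.singleObjXSelf (ComplexShape.up ℤ) 0 M').toLinearEquiv
      let e'' := (HomologicalComplex.singleObjXSelf (ComplexShape.up ℤ) 0 M'').toLinearEquiv
      constructor
      · intro h
        obtain ⟨m, hm⟩ := (hfg _).1 ((kmap_nil g x).symm.trans ((congrArg e'' h).trans (map_zero e'')))
        exact ⟨e.symm m, e'.injective ((kmap_nil f _).trans ((congrArg f.hom (e.apply_symm_apply m)).trans hm))⟩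
      · rintro ⟨y, rfl⟩
        refine e''.map_eq_zero_iff.1 ((kmap_nil g _).trans ?_)
        exact (congrArg g.hom (kmap_nil f y)).trans (hfg.apply_apply_eq_zero _)
    · exact ⟨fun _ => ⟨0, (map_zero _).trans (eq_zero_out M' [] i (by simp; omega) x).symm⟩,
        fun _ => eq_zero_out M'' [] i (by simp; omega) _⟩
  | a :: l, i => fun (x : (cone (CohIII.koszulCx M' l) a).X i) => by
    constructor
    · intro h
      obtain ⟨u₁, h₁⟩ := (kmap_exact hfg l (i + 1) _).1
        ((p₁_kmap g a l i (i + 1) rfl x).symm.trans ((congrArg _ h).trans (map_zero _)))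
      obtain ⟨u₂, h₂⟩ := (kmap_exact hfg l i _).1 ((p₂_kmap g a l i x).symm.trans ((congrArg _ h).trans (map_zero _)))
      refine ⟨(i₁ (CohIII.koszulCx M l) a i (i + 1) rfl).hom u₁ + (i₂ (CohIII.koszulCx M l) a i).hom u₂,
        cone_ext _ _ i (i + 1) rfl ?_ ?_⟩
      · rw [p₁_kmap, map_add, p₁_i₁, p₁_i₂, add_zero, h₁]
      · rw [p₂_kmap, map_add, p₂_i₁, p₂_i₂, zero_add, h₂]
    · rintro ⟨(y : (cone (CohIII.koszulCx M l) a).X i), rfl⟩
      refine cone_ext _ _ i (i + 1) rfl ?_ ?_
      · erw [p₁_kmap, p₁_kmap]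
        exact ((kmap_exact hfg l (i + 1)).apply_apply_eq_zero _).trans (map_zero _).symm
      · erw [p₂_kmap, p₂_kmap]
        exact ((kmap_exact hfg l i).apply_apply_eq_zero _).trans (map_zero _).symm

theorem kmap_smul_id (x : A) : ∀ (l : List A) (i : ℤ) (z : (CohIII.koszulCx M l).X i),
    ((kmap (x • 𝟙 M) l).f i).hom z = x • z
  | [], i, z => by
    by_cases hi : i = 0
    · subst hi
      let e := (HomologicalComplex.singleObjXSelf (ComplexShape.up ℤ) 0 M).toLinearEquiv
      exact e.injective ((kmap_nil (x • 𝟙 M) z).trans (e.map_smul x z).symm)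
    · exact (eq_zero_out M [] i (by simp; omega) _).trans (eq_zero_out M [] i (by simp; omega) _).symm
  | a :: l, i, (z : (cone (CohIII.koszulCx M l) a).X i) => cone_ext _ _ i (i + 1) rfl
      ((p₁_kmap _ a l i (i + 1) rfl z).trans ((kmap_smul_id x l _ _).trans
        ((p₁ (CohIII.koszulCx M l) a i (i + 1) rfl).hom.map_smul x z).symm))
      ((p₂_kmap _ a l i z).trans ((kmap_smul_id x l _ _).trans
        ((p₂ (CohIII.koszulCx M l) a i).hom.map_smul x z).symm))

theorem kmap_comp_zero (hfg : Function.Exact f.hom g.hom) (l : List A) : kmap f l ≫ kmap g l = 0 :=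
  HomologicalComplex.hom_ext _ _ fun i =>
    ModuleCat.hom_ext (LinearMap.ext fun x => (kmap_exact f g hfg l i).apply_apply_eq_zero x)

/-- The short exact sequence of Koszul complexes. -/
noncomputable def kseq (hfg : Function.Exact f.hom g.hom) (l : List A) :
    ShortComplex (CochainComplex (ModuleCat.{u} A) ℤ) :=
  ShortComplex.mk (kmap f l) (kmap g l) (kmap_comp_zero f g hfg l)

theorem kseq_shortExact (hf : Function.Injective f.hom) (hfg : Function.Exact f.hom g.hom)
    (hg : Function.Surjective g.hom) (l : List A) : (kseq f g hfg l).ShortExact := by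
  refine HomologicalComplex.shortExact_of_degreewise_shortExact _ fun i => ?_
  exact
    { exact := (ShortComplex.ShortExact.moduleCat_exact_iff_function_exact _).2 (kmap_exact f g hfg l i)
      mono_f := (ModuleCat.mono_iff_injective _).2 (kmap_injective f hf l i)
      epi_g := (ModuleCat.epi_iff_surjective _).2 (kmap_surjective g hg l i) }

variable (hf : Function.Injective f.hom) (hfg : Function.Exact f.hom g.hom) (hg : Function.Surjective g.hom)
  (l : List A) (i : ℤ)

/-- Rank of `H^i(f)`. -/
noncomputable def rf : ℕ∞ := Module.length A (range (HomologicalComplex.homologyMap (kmap f l) i).hom)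

/-- Rank of the connecting map. -/
noncomputable def rδ : ℕ∞ :=
  Module.length A (range ((kseq_shortExact f g hf hfg hg l).δ i (i + 1) rfl).hom)

include hf hfg hg in
theorem length₂ : Module.length A (HQ (CohIII.koszulCx M' l) i) = rf f l i + rf g l i := by
  rw [← length_homology]
  exact GrothLib.Herbrand.length_eq_range_add_range (R := A) _ _
    ((ShortComplex.ShortExact.moduleCat_exact_iff_function_exact _).1
      ((kseq_shortExact f g hf hfg hg l).homology_exact₂ i))

theorem length₃ : Module.length A (HQ (CohIII.koszulCx M'' l) i) = rf g l i + rδ f g hf hfg hg l i := by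
  rw [← length_homology]
  exact GrothLib.Herbrand.length_eq_range_add_range (R := A) _ _
    ((ShortComplex.ShortExact.moduleCat_exact_iff_function_exact _).1
      ((kseq_shortExact f g hf hfg hg l).homology_exact₃ i (i + 1) rfl))

theorem length₁ : Module.length A (HQ (CohIII.koszulCx M l) (i + 1)) = rδ f g hf hfg hg l i + rf f l (i + 1) := by
  rw [← length_homology]
  exact GrothLib.Herbrand.length_eq_range_add_range (R := A) _ _
    ((ShortComplex.ShortExact.moduleCat_exact_iff_function_exact _).1
      ((kseq_shortExact f g hf hfg hg l).homology_exact₁ i (i + 1) rfl))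

/-- `H^i / x H^i`. -/
abbrev rangeQ (x : A) (M : ModuleCat.{u} A) (l : List A) (i : ℤ) : Type u :=
  (CohIII.koszulCx M l).homology i ⧸
    range (x • LinearMap.id : (CohIII.koszulCx M l).homology i →ₗ[A] (CohIII.koszulCx M l).homology i)

variable [IsNoetherianRing A]

include hf in
theorem Good.of_injective [Module.Finite A M'] [Module.Finite A M] (h : Good M' l) : Good M l := by
  refine Module.length_ne_top_iff.1 (length_lt_top_of_support h _ ?_).ne
  rw [Module.support_quotient, Module.support_quotient]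
  exact Set.inter_subset_inter_left _ (Module.support_subset_of_injective f.hom hf)

include hg in
theorem Good.of_surjective [Module.Finite A M'] [Module.Finite A M''] (h : Good M' l) : Good M'' l := by
  refine Module.length_ne_top_iff.1 (length_lt_top_of_support h _ ?_).ne
  rw [Module.support_quotient, Module.support_quotient]
  exact Set.inter_subset_inter_left _ (Module.support_subset_of_surjective g.hom hg)

include hf hfg hg in
theorem chi_add [Module.Finite A M] [Module.Finite A M'] [Module.Finite A M''] (h : Good M' l) :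
    chi M' l = chi M l + chi M'' l := by
  have h1 := fun i => (h.of_injective f hf l).length_lt_top i
  have h3 := fun i => (h.of_surjective g hg l).length_lt_top i
  let a : ℤ → ℤ := fun i => ((rf f l i).toNat : ℤ)
  let b : ℤ → ℤ := fun i => ((rf g l i).toNat : ℤ)
  let c : ℤ → ℤ := fun i => ((rδ f g hf hfg hg l i).toNat : ℤ)
  have fin₃ : ∀ i, rf g l i ≠ ⊤ ∧ rδ f g hf hfg hg l i ≠ ⊤ := fun i => by
    have := h3 i
    rw [length₃ f g hf hfg hg, ENat.add_lt_top] at this
    exact ⟨this.1.ne, this.2.ne⟩
  have fin₁ : ∀ i, rf f l i ≠ ⊤ := fun i => by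
    have := h1 (i - 1 + 1)
    rw [length₁ f g hf hfg hg, ENat.add_lt_top, sub_add_cancel] at this
    exact this.2.ne
  have e2 : ∀ i, (ln M' l i : ℤ) = a i + b i := fun i => by
    rw [ln, length₂ f g hf hfg hg, ENat.toNat_add (fin₁ i) (fin₃ i).1, Nat.cast_add]
  have e3 : ∀ i, (ln M'' l i : ℤ) = b i + c i := fun i => by
    rw [ln, length₃ f g hf hfg hg, ENat.toNat_add (fin₃ i).1 (fin₃ i).2, Nat.cast_add]
  have e1 : ∀ i, (ln M l i : ℤ) = c (i - 1) + a i := fun i => by
    obtain ⟨j, rfl⟩ : ∃ j, i = j + 1 := ⟨i - 1, by ring⟩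
    rw [add_sub_cancel_right, ln, length₁ f g hf hfg hg, ENat.toNat_add (fin₃ j).2 (fin₁ (j + 1)), Nat.cast_add]
  have hz : ∀ (N : ModuleCat.{u} A) (i : ℤ), 0 < i ∨ i + (l.length : ℤ) < 0 → (ln N l i : ℤ) = 0 :=
    fun N i hi => by rw [ln_eq_zero N l i hi, Nat.cast_zero]
  have za : ∀ i, 0 < i ∨ i + (l.length : ℤ) < 0 → a i = 0 := fun i hi => by
    have := e2 i
    rw [hz M' i hi] at this
    have : 0 ≤ a i ∧ 0 ≤ b i := ⟨Int.natCast_nonneg _, Int.natCast_nonneg _⟩
    omega
  have zc : ∀ i, 0 < i ∨ i + (l.length : ℤ) < 0 → c i = 0 := fun i hi => by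
    have := e3 i
    rw [hz M'' i hi] at this
    have : 0 ≤ c i ∧ 0 ≤ b i := ⟨Int.natCast_nonneg _, Int.natCast_nonneg _⟩
    omega
  have zb : ∀ i, 0 < i ∨ i + (l.length : ℤ) < 0 → b i = 0 := fun i hi => by
    have := e3 i
    rw [hz M'' i hi, zc i hi, add_zero] at this
    exact this.symm
  have fa := finite_support_sign a l.length za
  have fb := finite_support_sign b l.length zb
  have fc := finite_support_sign c l.length zc
  have fc' : (Function.support fun i : ℤ => -((((i - 1).negOnePow : ℤˣ) : ℤ) * c (i - 1))).Finite :=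
    (fc.preimage (sub_left_injective (b := (1 : ℤ))).injOn).subset fun i hi => by simpa using hi
  have r2 : chi M' l = (∑ᶠ i : ℤ, ((i.negOnePow : ℤˣ) : ℤ) * a i) + ∑ᶠ i : ℤ, ((i.negOnePow : ℤˣ) : ℤ) * b i := by
    rw [← finsum_add_distrib fa fb]
    exact finsum_congr fun i => by rw [e2, mul_add]
  have r3 : chi M'' l = (∑ᶠ i : ℤ, ((i.negOnePow : ℤˣ) : ℤ) * b i) + ∑ᶠ i : ℤ, ((i.negOnePow : ℤˣ) : ℤ) * c i := by
    rw [← finsum_add_distrib fb fc]
    exact finsum_congr fun i => by rw [e3, mul_add]
  have r1 : chi M l = -(∑ᶠ i : ℤ, ((i.negOnePow : ℤˣ) : ℤ) * c i) + ∑ᶠ i : ℤ, ((i.negOnePow : ℤˣ) : ℤ) * a i := by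
    have := finsum_comp_equiv (Equiv.subRight (1 : ℤ)) (f := fun i : ℤ => ((i.negOnePow : ℤˣ) : ℤ) * c i)
    rw [← this, ← finsum_neg_distrib]
    refine Eq.trans ?_ (finsum_add_distrib fc' fa)
    refine finsum_congr fun i => ?_
    rw [e1, mul_add]
    congr 1
    obtain ⟨j, rfl⟩ : ∃ j, i = j + 1 := ⟨i - 1, by ring⟩
    simp [Int.negOnePow_succ]
  rw [r1, r2, r3]
  ring

include hf hfg hg in
theorem ln_middle_le [Module.Finite A M] [Module.Finite A M'] [Module.Finite A M''] (h : Good M' l) :
    ln M' l i ≤ ln M l i + ln M'' l i := by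
  have h3 := (h.of_surjective g hg l).length_lt_top i
  have h1 := (h.of_injective f hf l).length_lt_top (i - 1 + 1)
  have e1 := length₁ f g hf hfg hg l (i - 1)
  rw [sub_add_cancel] at h1 e1
  rw [ln, ln, ln, length₂ f g hf hfg hg, ← ENat.toNat_add h1.ne h3.ne, e1, length₃ f g hf hfg hg]
  refine ENat.toNat_le_toNat ?_ ?_
  · exact add_le_add le_add_self le_self_add
  · rw [← e1, ← length₃ f g hf hfg hg]
    exact (ENat.add_lt_top.2 ⟨h1, h3⟩).ne

omit hf hfg hg l in
/-- Cutting by a nonzerodivisor. -/
theorem ln_cons_regular [Module.Finite A M] [Module.Finite A M'] {x : A} {l : List A} (hx : ∀ m : M, x • m = 0 → m = 0)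
    (hgs : Function.Surjective f.hom) (hker : ∀ m : M, f.hom m = 0 ↔ ∃ m', x • m' = m)
    (h : Good M (x :: l)) (i : ℤ) : ln M (x :: l) i = ln M' l i := by
  have hinj : Function.Injective (x • 𝟙 M : M ⟶ M).hom := fun a b hab => sub_eq_zero.1 (hx _ (by
    rw [smul_sub, sub_eq_zero]; exact hab))
  have hex : Function.Exact (x • 𝟙 M : M ⟶ M).hom f.hom := fun m => hker m
  have hmap : ∀ j, (HomologicalComplex.homologyMap (kmap (x • 𝟙 M) l) j).hom = x • LinearMap.id := fun j => by
    have : kmap (x • 𝟙 M) l = x • 𝟙 (CohIII.koszulCx M l) :=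
      HomologicalComplex.hom_ext _ _ fun k => ModuleCat.hom_ext (LinearMap.ext fun z => kmap_smul_id x l k z)
    rw [this]
    refine congrArg ModuleCat.Hom.hom (?_ : HomologicalComplex.homologyMap (x • 𝟙 (CohIII.koszulCx M l)) j = x • 𝟙 _)
    rw [← HomologicalComplex.homologyMap_id]
    exact ShortComplex.homologyMap_smul (φ := (HomologicalComplex.shortComplexFunctor _ _ j).map (𝟙 _)) x
  have tr : ∀ (j : ℤ), Module.length A (rangeQ x M l j) = Module.length A (HQ (CohIII.koszulCx M l) j ⧸
      range (x • LinearMap.id : _ →ₗ[A] HQ (CohIII.koszulCx M l) j)) ∧ Module.length A (ker (x • LinearMap.id :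
      (CohIII.koszulCx M l).homology j →ₗ[A] (CohIII.koszulCx M l).homology j)) = Module.length A
        (ker (x • LinearMap.id : _ →ₗ[A] HQ (CohIII.koszulCx M l) j)) := fun j => by
    obtain ⟨e⟩ := nonempty_HQ_equiv (CohIII.koszulCx M l) j
    constructor
    · refine (Submodule.Quotient.equiv _ _ e ?_).length_eq
      ext q
      constructor
      · rintro ⟨_, ⟨p, rfl⟩, rfl⟩
        exact ⟨e p, (e.map_smul x p).symm⟩
      · rintro ⟨p, rfl⟩
        exact ⟨x • e.symm p, ⟨e.symm p, rfl⟩, by simp⟩
    · refine (e.submoduleMap _).length_eq.trans (LinearEquiv.ofEq _ _ ?_).length_eq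
      ext q
      constructor
      · rintro ⟨p, hp, rfl⟩
        show x • e p = 0
        rw [← map_smul, show x • p = 0 from hp, map_zero]
      · intro hq
        refine ⟨e.symm q, ?_, e.apply_symm_apply q⟩
        show x • e.symm q = 0
        rw [← map_smul, show x • q = 0 from hq, map_zero]
  rw [ln_cons h, ← ENat.toNat_add (h.length_quot_lt i).ne (h.length_ker_lt (i + 1)).ne, ln]
  refine congrArg ENat.toNat ?_
  rw [length₃ (x • 𝟙 M) f hinj hex hgs, ← (tr i).1, ← (tr (i + 1)).2]
  have x2 := (ShortComplex.ShortExact.moduleCat_exact_iff_function_exact _).1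
    ((kseq_shortExact _ _ hinj hex hgs l).homology_exact₂ i)
  have x1 := (ShortComplex.ShortExact.moduleCat_exact_iff_function_exact _).1
    ((kseq_shortExact _ _ hinj hex hgs l).homology_exact₁ i (i + 1) rfl)
  have d1 := (Submodule.quotEquivOfEq _ _ ((LinearMap.exact_iff.1 x2).trans (congrArg LinearMap.range (hmap i)))).length_eq
  refine congrArg₂ (· + ·) ?_ ?_
  · exact d1.symm.trans (LinearMap.quotKerEquivRange _).length_eq
  · exact (LinearEquiv.ofEq _ _ ((congrArg LinearMap.ker (hmap (i + 1)).symm).trans (LinearMap.exact_iff.1 x1))).length_eq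

end GrothLib.KoszulEuler
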