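import Groth.Agent.Lib.KoszulEuler.Exact
import Groth.Agent.Lib.Depth.DimFiltration
import Mathlib.RingTheory.KrullDimension.Regular
import Mathlib.RingTheory.Ideal.AssociatedPrime.Finiteness
import Mathlib.RingTheory.Nakayama

/-! Dévissage for the Koszul Euler characteristic and for Koszul homology lengths. -/

set_option linter.style.haveILetI false

universe u

open CategoryTheory CategoryTheory.Limits LinearMap Pointwise

namespace GrothLib.KoszulEuler

variable {A : Type u} [CommRing A]

theorem spanL_cons (f : A) (l : List A) : spanL (f :: l) = Ideal.span {f} ⊔ spanL l := by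
  rw [spanL, ← Ideal.span_union]
  congr 1
  ext a
  exact List.mem_cons

theorem spanL_append_comm (l l' : List A) : spanL (l ++ l') = spanL (l' ++ l) := by
  refine congrArg Ideal.span (Set.ext fun a => ?_)
  exact List.mem_append.trans (or_comm.trans List.mem_append.symm)

theorem Good.congr {M : ModuleCat.{u} A} {l l' : List A} (h : Good M l) (e : spanL l = spanL l') : Good M l' := by
  unfold Good at h ⊢
  rwa [← e]

theorem good_of_subsingleton (M : ModuleCat.{u} A) [Subsingleton M] (l : List A) : Good M l := .of_subsingleton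

theorem ln_eq_zero_of_subsingleton (M : ModuleCat.{u} A) [Subsingleton M] (l : List A) (i : ℤ) : ln M l i = 0 := by
  haveI : Subsingleton (HQ (CohIII.koszulCx M l) i) := ⟨fun a b => by
    obtain ⟨a, rfl⟩ := Submodule.Quotient.mk_surjective _ a
    obtain ⟨b, rfl⟩ := Submodule.Quotient.mk_surjective _ b
    exact congrArg _ (Subtype.ext (((one_smul A a.1).symm.trans
      (smul_eq_zero_X M (fun m => Subsingleton.elim _ _) l i a.1)).trans
      ((one_smul A b.1).symm.trans (smul_eq_zero_X M (fun m => Subsingleton.elim _ _) l i b.1)).symm))⟩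
  rw [ln, Module.length_eq_zero, ENat.toNat_zero]

theorem chi_eq_zero_of_subsingleton (M : ModuleCat.{u} A) [Subsingleton M] (l : List A) : chi M l = 0 := by
  simp [chi, ln_eq_zero_of_subsingleton M l]

theorem nonempty_HQ_nil (M : ModuleCat.{u} A) : Nonempty (HQ (CohIII.koszulCx M []) 0 ≃ₗ[A] M) := by
  obtain ⟨e⟩ := nonempty_HQ_equiv (CohIII.koszulCx M ([] : List A)) 0
  exact ⟨e.symm.trans ((HomologicalComplex.singleObjHomologySelfIso (ComplexShape.up ℤ) 0 M).toLinearEquiv)⟩

theorem ln_nil (M : ModuleCat.{u} A) : ln M [] 0 = (Module.length A M).toNat := by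
  obtain ⟨e⟩ := nonempty_HQ_nil M
  rw [ln, e.length_eq]

theorem chi_nil (M : ModuleCat.{u} A) : chi M [] = (Module.length A M).toNat := by
  rw [chi, finsum_eq_single _ 0 fun i hi => by rw [ln_eq_zero M [] i (by simp; omega), Nat.cast_zero, mul_zero],
    ln_nil, Int.negOnePow_zero, Units.val_one, one_mul]

theorem good_nil_iff (M : ModuleCat.{u} A) : Good M [] ↔ IsFiniteLength A M := by
  have h : spanL ([] : List A) • (⊤ : Submodule A M) = ⊥ := by simp [spanL]
  unfold Good
  rw [h]
  let e := Submodule.quotEquivOfEqBot (⊥ : Submodule A M) rfl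
  exact ⟨fun h => h.of_surjective e.surjective, fun h => h.of_surjective e.symm.surjective⟩

theorem spanL_ofFn {k : ℕ} (x : Fin k → A) : spanL (List.ofFn x) = Ideal.span (Set.range x) :=
  congrArg Ideal.span (Set.ext fun a => List.mem_ofFn' x a)

variable [IsNoetherianRing A]

omit [IsNoetherianRing A] in
theorem good_one_cons (M : ModuleCat.{u} A) (l : List A) : Good M (1 :: l) := by
  haveI : Subsingleton (M ⧸ (spanL (1 :: l) • (⊤ : Submodule A M))) := by
    rw [Submodule.Quotient.subsingleton_iff, spanL_cons, Ideal.span_singleton_one, top_sup_eq, Submodule.top_smul]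
  exact .of_subsingleton

theorem Good.tail {M : ModuleCat.{u} A} [Module.Finite A M] {f : A} {l : List A} (h : Good M (f :: l))
    (hf : ∀ m : M, f • m = 0) : Good M l := by
  refine Module.length_ne_top_iff.1 (length_lt_top_of_support h _ ?_).ne
  intro p hp
  rw [Module.support_quotient] at hp ⊢
  refine ⟨hp.1, ?_⟩
  refine Ideal.span_le.2 fun a ha => ?_
  rcases List.mem_cons.1 ha with rfl | ha
  · exact (Module.mem_support_iff_of_finite.1 hp.1) (Module.mem_annihilator.2 hf)
  · exact hp.2 (Ideal.subset_span ha)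

theorem chi_cons_killed {M : ModuleCat.{u} A} [Module.Finite A M] {f : A} {l : List A} (h : Good M (f :: l))
    (hf : ∀ m : M, f • m = 0) : chi M (f :: l) = 0 := by
  rw [chi_cons h]
  refine finsum_eq_zero_of_forall_eq_zero fun i => ?_
  have h0 : (f • LinearMap.id : HQ (CohIII.koszulCx M l) i →ₗ[A] HQ (CohIII.koszulCx M l) i) = 0 :=
    LinearMap.ext fun q => by
      obtain ⟨z, rfl⟩ := Submodule.Quotient.mk_surjective _ q
      show f • (Submodule.Quotient.mk z : HQ (CohIII.koszulCx M l) i) = 0
      rw [← Submodule.Quotient.mk_smul, show f • z = 0 from Subtype.ext (smul_eq_zero_X M hf l i z.1),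
        Submodule.Quotient.mk_zero]
  rw [eInd, h0, LinearMap.ker_zero, LinearMap.range_zero,
    (Submodule.quotEquivOfEqBot (⊥ : Submodule A (HQ (CohIII.koszulCx M l) i)) rfl).length_eq, Module.length_top,
    sub_self, mul_zero]

theorem ln_cons_le {M : ModuleCat.{u} A} [Module.Finite A M] {f : A} {l : List A} (h : Good M (f :: l))
    (hl : Good M l) (i : ℤ) : ln M (f :: l) i ≤ ln M l i + ln M l (i + 1) := by
  rw [ln_cons h]
  exact add_le_add (ENat.toNat_le_toNat (Module.length_le_of_surjective _ (Submodule.mkQ_surjective _)) (hl.length_lt_top i).ne)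
    (ENat.toNat_le_toNat (Module.length_le_of_injective _ (Submodule.injective_subtype _)) (hl.length_lt_top (i + 1)).ne)

theorem chi_cons_regular {M : ModuleCat.{u} A} [Module.Finite A M] {x : A} {l : List A}
    (hx : ∀ m : M, x • m = 0 → m = 0) (h : Good M (x :: l)) :
    chi M (x :: l) = chi (ModuleCat.of A (QuotSMulTop x M)) l ∧
      ∀ i, ln M (x :: l) i = ln (ModuleCat.of A (QuotSMulTop x M)) l i := by
  haveI : Module.Finite A (ModuleCat.of A (QuotSMulTop x M)) := inferInstanceAs (Module.Finite A (QuotSMulTop x M))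
  have e := ln_cons_regular (ModuleCat.ofHom (Submodule.mkQ (x • (⊤ : Submodule A M)))) (M' := ModuleCat.of A (QuotSMulTop x M))
    hx (Submodule.mkQ_surjective _) (fun m => by
      show Submodule.Quotient.mk m = 0 ↔ _
      rw [Submodule.Quotient.mk_eq_zero, Submodule.mem_smul_pointwise_iff_exists]
      exact ⟨fun ⟨n, _, hn⟩ => ⟨n, hn⟩, fun ⟨n, hn⟩ => ⟨n, trivial, hn⟩⟩) h
  exact ⟨finsum_congr fun i => by rw [e i], e⟩

theorem good_quotSMul {M : ModuleCat.{u} A} [Module.Finite A M] {x : A} {l : List A} (h : Good M (x :: l)) :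
    Good (ModuleCat.of A (QuotSMulTop x M)) l := by
  haveI : Module.Finite A (ModuleCat.of A (QuotSMulTop x M)) := inferInstanceAs (Module.Finite A (QuotSMulTop x M))
  refine (h.of_surjective (ModuleCat.ofHom (Submodule.mkQ (x • (⊤ : Submodule A M)))) (Submodule.mkQ_surjective _)
    (M'' := ModuleCat.of A (QuotSMulTop x M)) (x :: l)).tail fun m => ?_
  obtain ⟨m, rfl⟩ := Submodule.Quotient.mk_surjective _ m
  exact (Submodule.Quotient.mk_eq_zero _).2 (Submodule.smul_mem_pointwise_smul m x ⊤ trivial)

theorem Good.pow {M : ModuleCat.{u} A} [Module.Finite A M] {x : A} {l : List A} (h : Good M (x :: l)) :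
    ∀ n : ℕ, Good M (x ^ n :: l)
  | 0 => by rw [pow_zero]; exact good_one_cons M l
  | n + 1 => by rw [pow_succ]; exact (h.pow n).mul h

theorem chi_one_cons (M : ModuleCat.{u} A) [Module.Finite A M] (l : List A) : chi M (1 :: l) = 0 := by
  have := chi_mul_head (good_one_cons M l) (good_one_cons M l) (by rw [mul_one]; exact good_one_cons M l)
  rw [mul_one] at this
  omega

theorem chi_pow_head {M : ModuleCat.{u} A} [Module.Finite A M] {x : A} {l : List A} (h : Good M (x :: l)) :
    ∀ n : ℕ, chi M (x ^ n :: l) = n * chi M (x :: l)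
  | 0 => by rw [pow_zero, chi_one_cons, Nat.cast_zero, zero_mul]
  | n + 1 => by
    rw [pow_succ, chi_mul_head (h.pow n) h ((h.pow n).mul h), chi_pow_head h n]
    push_cast
    ring

theorem chi_pow {M : ModuleCat.{u} A} [Module.Finite A M] : ∀ (k : ℕ) (x : Fin k → A) (m : Fin k → ℕ) (pre : List A),
    Good M (pre ++ List.ofFn x) →
      Good M (pre ++ List.ofFn fun j => x j ^ m j) ∧
        chi M (pre ++ List.ofFn fun j => x j ^ m j) = (∏ j, (m j : ℤ)) * chi M (pre ++ List.ofFn x) := by
  intro k
  induction k with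
  | zero =>
    intro x m pre h
    simp only [List.ofFn_zero, Finset.univ_eq_empty, Finset.prod_empty, one_mul] at h ⊢
    exact ⟨h, trivial⟩
  | succ k ih =>
    intro x m pre h
    rw [List.ofFn_succ] at h
    rw [List.ofFn_succ, List.ofFn_succ]
    have hh : Good M (x 0 :: ((List.ofFn fun j : Fin k => x j.succ) ++ pre)) := h.congr (spanL_append_comm _ _)
    have h1 := hh.pow (m 0)
    have h1' : Good M ((pre ++ [x 0 ^ m 0]) ++ List.ofFn fun j : Fin k => x j.succ) := by
      refine h1.congr ?_
      rw [List.append_assoc, spanL_append_comm pre]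
      rfl
    obtain ⟨g, e⟩ := ih (fun j => x j.succ) (fun j => m j.succ) (pre ++ [x 0 ^ m 0]) h1'
    rw [List.append_assoc] at g e
    refine ⟨g, ?_⟩
    rw [show pre ++ (x 0 ^ m 0 :: List.ofFn fun j : Fin k => x j.succ ^ m j.succ) =
      pre ++ ([x 0 ^ m 0] ++ List.ofFn fun j : Fin k => x j.succ ^ m j.succ) from rfl, e, List.append_assoc,
      chi_swap M pre, chi_swap M pre]
    show _ * chi M (x 0 ^ m 0 :: ((List.ofFn fun j : Fin k => x j.succ) ++ pre)) =
      _ * chi M (x 0 :: ((List.ofFn fun j : Fin k => x j.succ) ++ pre))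
    rw [chi_pow_head hh, Fin.prod_univ_succ]
    ring

theorem supportDim_le_zero_iff_good_nil {M : ModuleCat.{u} A} [Module.Finite A M] :
    Good M [] ↔ Module.supportDim A M ≤ 0 := by
  rw [good_nil_iff, ← Module.length_ne_top_iff]
  exact ⟨fun h => GrothLib.LenIneq.supportDim_le_zero h,
    fun h => (GrothLib.FiniteLengthSupp.length_lt_top h).ne⟩

variable [IsLocalRing A]

theorem supportDim_quot {M : Type u} [AddCommGroup M] [Module A M] [Module.Finite A M] {x : A}
    (hxm : x ∈ IsLocalRing.maximalIdeal A) (hx : ∀ m : M, x • m = 0 → m = 0) :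
    Module.supportDim A (QuotSMulTop x M) + 1 = Module.supportDim A M :=
  Module.supportDim_quotSMulTop_succ_eq_supportDim
    (fun a b h => sub_eq_zero.1 (hx _ (by rw [smul_sub, sub_eq_zero]; exact h))) hxm

omit [IsNoetherianRing A] [IsLocalRing A] in
theorem cases_of_equiv_quotient {N : Type u} [AddCommGroup N] [Module A N] {p : Ideal A} [p.IsPrime]
    (e : N ≃ₗ[A] A ⧸ p) (x : A) : (∀ m : N, x • m = 0) ∨ (∀ m : N, x • m = 0 → m = 0) := by
  by_cases hxp : x ∈ p
  · refine Or.inl fun m => e.injective ?_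
    obtain ⟨a, ha⟩ := Submodule.Quotient.mk_surjective _ (e m)
    rw [map_zero, map_smul, ← ha, ← Submodule.Quotient.mk_smul, Submodule.Quotient.mk_eq_zero]
    exact p.mul_mem_right a hxp
  · refine Or.inr fun m hm => e.injective ?_
    obtain ⟨a, ha⟩ := Submodule.Quotient.mk_surjective _ (e m)
    have h0 := congrArg e hm
    rw [map_smul, map_zero, ← ha, ← Submodule.Quotient.mk_smul, Submodule.Quotient.mk_eq_zero] at h0
    rw [map_zero, ← ha, Submodule.Quotient.mk_eq_zero]
    exact ((‹p.IsPrime›).mem_or_mem h0).resolve_left hxp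

/-- The conclusion of `chi_props`. -/
def Props (M : ModuleCat.{u} A) (l : List A) : Prop :=
  Module.supportDim A M ≤ (l.length : WithBot ℕ∞) ∧ 0 ≤ chi M l ∧
    (chi M l = 0 ↔ Module.supportDim A M < (l.length : WithBot ℕ∞))

omit [IsLocalRing A] in
theorem props_killed {M : ModuleCat.{u} A} [Module.Finite A M] {x : A} {l : List A} (h : Good M (x :: l))
    (hk : ∀ m : M, x • m = 0) (ih : Good M l → Props M l) : Props M (x :: l) := by
  obtain ⟨h1, -, -⟩ := ih (h.tail hk)
  have hlt : Module.supportDim A M < ((x :: l).length : WithBot ℕ∞) :=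
    h1.trans_lt (by rw [List.length_cons]; exact_mod_cast Nat.lt_succ_self l.length)
  unfold Props
  rw [chi_cons_killed h hk]
  exact ⟨hlt.le, le_rfl, iff_of_true rfl hlt⟩

omit [CommRing A] [IsNoetherianRing A] [IsLocalRing A] in
theorem lt_iff_succ_lt (a : WithBot ℕ∞) (n : ℕ) : a < (n : WithBot ℕ∞) ↔ a + 1 < (n : WithBot ℕ∞) + 1 := by
  induction a using WithBot.recBotCoe with
  | bot =>
    rw [WithBot.bot_add]
    exact iff_of_true (WithBot.bot_lt_coe _) (WithBot.bot_lt_coe ((n : ℕ∞) + 1))
  | coe b =>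
    rw [← WithBot.coe_natCast, ← WithBot.coe_one, ← WithBot.coe_add, ← WithBot.coe_add, WithBot.coe_lt_coe,
      WithBot.coe_lt_coe, ENat.add_lt_add_iff_right ENat.one_ne_top]

theorem props_regular {M : ModuleCat.{u} A} [Module.Finite A M] {x : A} {l : List A} (h : Good M (x :: l))
    (hxm : x ∈ IsLocalRing.maximalIdeal A) (hinj : ∀ m : M, x • m = 0 → m = 0)
    (ih : Props (ModuleCat.of A (QuotSMulTop x M)) l) : Props M (x :: l) := by
  obtain ⟨h1, h2, h3⟩ := ih
  unfold Props
  rw [(chi_cons_regular hinj h).1, ← supportDim_quot hxm hinj, List.length_cons, Nat.cast_succ]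
  exact ⟨add_le_add_left h1 1, h2, h3.trans (lt_iff_succ_lt _ _)⟩

omit [IsLocalRing A] in
theorem props_exact {M₁ M₂ M₃ : ModuleCat.{u} A} [Module.Finite A M₁] [Module.Finite A M₂] [Module.Finite A M₃]
    (f : M₁ ⟶ M₂) (g : M₂ ⟶ M₃) (hf : Function.Injective f.hom) (hfg : Function.Exact f.hom g.hom)
    (hg : Function.Surjective g.hom) {l : List A} (h : Good M₂ l) (i1 : Props M₁ l) (i3 : Props M₃ l) :
    Props M₂ l := by
  obtain ⟨a1, b1, c1⟩ := i1
  obtain ⟨a3, b3, c3⟩ := i3
  have hadd := chi_add f g hf hfg hg l h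
  have hmax := GrothLib.Depth.supportDim_le_max_of_exact f.hom g.hom hf hg hfg
  have h1 := Module.supportDim_le_of_injective f.hom hf
  have h3 := Module.supportDim_le_of_surjective g.hom hg
  refine ⟨hmax.trans (max_le a1 a3), by omega, ⟨fun h0 => ?_, fun h0 => ?_⟩⟩
  · exact hmax.trans_lt (max_lt (c1.1 (by omega)) (c3.1 (by omega)))
  · rw [hadd, c1.2 (h1.trans_lt h0), c3.2 (h3.trans_lt h0), add_zero]

/-- `dim M ≤ r` and `χ ≥ 0`, with equality exactly when `dim M < r`. -/
theorem chi_props : ∀ (l : List A), (∀ a ∈ l, a ∈ IsLocalRing.maximalIdeal A) → ∀ (M : ModuleCat.{u} A),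
    Module.Finite A M → Good M l → Props M l := by
  intro l
  induction l with
  | nil =>
    intro _ M hM h
    have hfl := (good_nil_iff M).1 h
    unfold Props
    refine ⟨by simpa using supportDim_le_zero_iff_good_nil.1 h, by rw [chi_nil]; exact Int.natCast_nonneg _, ?_⟩
    rw [chi_nil, Int.natCast_eq_zero, ENat.toNat_eq_zero, or_iff_left (Module.length_ne_top_iff.2 hfl),
      Module.length_eq_zero_iff, ← Module.supportDim_eq_bot_iff_subsingleton (R := A)]
    constructor
    · intro h; rw [h]; exact WithBot.bot_lt_coe _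
    · intro h
      by_contra hne
      obtain ⟨d, hd⟩ := WithBot.ne_bot_iff_exists.1 hne
      rw [← hd, List.length_nil, Nat.cast_zero] at h
      exact absurd (WithBot.coe_lt_coe.1 h) not_lt_zero
  | cons x l ih =>
    intro hl M hM h
    have hxm : x ∈ IsLocalRing.maximalIdeal A := hl x List.mem_cons_self
    have hl' := fun a ha => hl a (List.mem_cons_of_mem _ ha)
    refine IsNoetherianRing.induction_on_isQuotientEquivQuotientPrime A (M := M) hM
      (motive := fun N _ _ _ => Good (ModuleCat.of A N) (x :: l) → Props (ModuleCat.of A N) (x :: l)) ?_ ?_ ?_ h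
    · intro N _ _ _ _ _
      haveI : Subsingleton (ModuleCat.of A N) := ‹Subsingleton N›
      unfold Props
      rw [Module.supportDim_eq_bot_of_subsingleton, chi_eq_zero_of_subsingleton]
      exact ⟨bot_le, le_rfl, iff_of_true rfl (WithBot.bot_lt_coe _)⟩
    · intro N _ _ _ p e hN
      rcases cases_of_equiv_quotient e x with hk | hinj
      · exact props_killed hN hk (ih hl' _ inferInstance)
      · exact props_regular hN hxm hinj (ih hl' _
          (inferInstanceAs (Module.Finite A (QuotSMulTop x (ModuleCat.of A N)))) (good_quotSMul hN))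
    · intro N₁ _ _ _ N₂ _ _ _ N₃ _ _ _ f g hf hg hfg ih₁ ih₃ hN
      exact props_exact (ModuleCat.ofHom f) (ModuleCat.ofHom g) hf hfg hg hN
        (ih₁ (hN.of_injective (ModuleCat.ofHom f) hf _)) (ih₃ (hN.of_surjective (ModuleCat.ofHom g) hg _))

end GrothLib.KoszulEuler
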