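import Groth.Agent.Lib.KoszulEuler.Main

/-! Growth of Koszul homology of powers. -/

set_option linter.style.haveILetI false

universe u

open CategoryTheory LinearMap Pointwise

namespace GrothLib.KoszulEuler

variable {A : Type u} [CommRing A] [IsNoetherianRing A]

theorem good_pows {M : ModuleCat.{u} A} [Module.Finite A M] {k : ℕ} {x : Fin k → A} (h : Good M (List.ofFn x))
    (n : ℕ) : Good M (List.ofFn fun j => x j ^ n) :=
  (chi_pow (M := M) k x (fun _ => n) [] h).1

omit [IsNoetherianRing A] in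
theorem ofFn_succ_pow {k : ℕ} (x : Fin (k + 1) → A) (n : ℕ) :
    List.ofFn (fun j => x j ^ n) = x 0 ^ n :: List.ofFn fun j : Fin k => x j.succ ^ n :=
  List.ofFn_succ

theorem good_cons_pows {M : ModuleCat.{u} A} [Module.Finite A M] {k : ℕ} {x : Fin (k + 1) → A}
    (h : Good M (List.ofFn x)) (n : ℕ) : Good M (x 0 :: List.ofFn fun j : Fin k => x j.succ ^ n) := by
  rw [List.ofFn_succ] at h
  exact (chi_pow (M := M) k (fun j => x j.succ) (fun _ => n) [x 0] h).1

theorem ln_quot_pow_le {M : ModuleCat.{u} A} [Module.Finite A M] {x : A} {L : List A}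
    (hx : ∀ m : M, x • m = 0 → m = 0) (h : Good M (x :: L)) (j : ℤ) : ∀ n : ℕ,
    ln (ModuleCat.of A (QuotSMulTop (x ^ n) M)) L j ≤ n * ln (ModuleCat.of A (QuotSMulTop x M)) L j
  | 0 => by
    haveI : Subsingleton (ModuleCat.of A (QuotSMulTop (x ^ 0) M)) := by
      refine subsingleton_of_forall_eq 0 fun q => ?_
      obtain ⟨m, rfl⟩ := Submodule.Quotient.mk_surjective _ q
      exact (Submodule.Quotient.mk_eq_zero _).2
        ((Submodule.mem_smul_pointwise_iff_exists _ _ _).2 ⟨m, trivial, by rw [pow_zero, one_smul]⟩)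
    rw [ln_eq_zero_of_subsingleton, Nat.zero_mul]
  | n + 1 => by
    haveI : Module.Finite A (ModuleCat.of A (QuotSMulTop (x ^ (n + 1)) M)) :=
      inferInstanceAs (Module.Finite A (QuotSMulTop (x ^ (n + 1)) M))
    haveI : Module.Finite A (ModuleCat.of A (QuotSMulTop x M)) := inferInstanceAs (Module.Finite A (QuotSMulTop x M))
    haveI : Module.Finite A (ModuleCat.of A (QuotSMulTop (x ^ n) M)) :=
      inferInstanceAs (Module.Finite A (QuotSMulTop (x ^ n) M))
    let f : ModuleCat.of A (QuotSMulTop x M) ⟶ ModuleCat.of A (QuotSMulTop (x ^ (n + 1)) M) :=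
      ModuleCat.ofHom (Submodule.mapQ (x • (⊤ : Submodule A M)) (x ^ (n + 1) • (⊤ : Submodule A M))
        (x ^ n • LinearMap.id) (by
          rintro _ ⟨m, -, rfl⟩
          exact (Submodule.mem_smul_pointwise_iff_exists _ _ _).2 ⟨m, trivial, by
            show x ^ (n + 1) • m = x ^ n • x • m
            rw [← mul_smul, pow_succ]⟩))
    let g : ModuleCat.of A (QuotSMulTop (x ^ (n + 1)) M) ⟶ ModuleCat.of A (QuotSMulTop (x ^ n) M) :=
      ModuleCat.ofHom (Submodule.factor (p := x ^ (n + 1) • (⊤ : Submodule A M)) (p' := x ^ n • (⊤ : Submodule A M)) (by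
        rintro _ ⟨m, -, rfl⟩
        exact (Submodule.mem_smul_pointwise_iff_exists _ _ _).2 ⟨x • m, trivial, by
          show x ^ n • x • m = x ^ (n + 1) • m
          rw [← mul_smul, pow_succ]⟩))
    have hxn : ∀ (k : ℕ) (m : M), x ^ k • m = 0 → m = 0 := fun k => by
      induction k with
      | zero => intro m hm; rwa [pow_zero, one_smul] at hm
      | succ k ih => intro m hm; rw [pow_succ, mul_smul] at hm; exact hx _ (ih _ hm)
    have hf : Function.Injective f.hom := by
      rw [← LinearMap.ker_eq_bot, Submodule.eq_bot_iff]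
      intro q hq
      obtain ⟨m, rfl⟩ := Submodule.Quotient.mk_surjective _ q
      obtain ⟨w, -, hw⟩ := (Submodule.mem_smul_pointwise_iff_exists _ _ _).1 ((Submodule.Quotient.mk_eq_zero _).1 hq)
      refine (Submodule.Quotient.mk_eq_zero _).2 ((Submodule.mem_smul_pointwise_iff_exists _ _ _).2 ⟨w, trivial, ?_⟩)
      refine sub_eq_zero.1 (hxn n _ ?_)
      rw [smul_sub, ← mul_smul, ← pow_succ, hw]
      exact sub_self _
    have hg : Function.Surjective g.hom := fun q => by
      obtain ⟨m, rfl⟩ := Submodule.Quotient.mk_surjective _ q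
      exact ⟨Submodule.Quotient.mk m, rfl⟩
    have hfg : Function.Exact f.hom g.hom := fun q => by
      obtain ⟨m, rfl⟩ := Submodule.Quotient.mk_surjective _ q
      constructor
      · intro hq
        obtain ⟨w, -, hw⟩ := (Submodule.mem_smul_pointwise_iff_exists _ _ _).1 ((Submodule.Quotient.mk_eq_zero _).1 hq)
        exact ⟨Submodule.Quotient.mk w, congrArg _ hw⟩
      · rintro ⟨w, hw⟩
        rw [← hw]
        obtain ⟨w, rfl⟩ := Submodule.Quotient.mk_surjective _ w
        exact (Submodule.Quotient.mk_eq_zero _).2 ((Submodule.mem_smul_pointwise_iff_exists _ _ _).2 ⟨w, trivial, rfl⟩)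
    have hh := ln_middle_le f g hf hfg hg L j (good_quotSMul (h.pow (n + 1)))
    have hih := ln_quot_pow_le hx h j n
    rw [add_mul, one_mul]
    omega

theorem ln_cons_pow_killed {M : ModuleCat.{u} A} [Module.Finite A M] {x : A} {L : List A}
    (hk : ∀ m : M, x • m = 0) (h : Good M (x :: L)) {n : ℕ} (hn : 0 < n) (j : ℤ) :
    ln M (x ^ n :: L) j ≤ ln M L j + ln M L (j + 1) := by
  obtain ⟨p, rfl⟩ : ∃ p, n = p + 1 := ⟨n - 1, by omega⟩
  exact ln_cons_le (h.pow (p + 1)) (h.tail hk) j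

theorem ln_cons_pow_regular {M : ModuleCat.{u} A} [Module.Finite A M] {x : A} {L : List A}
    (hx : ∀ m : M, x • m = 0 → m = 0) (h : Good M (x :: L)) (n : ℕ) (j : ℤ) :
    ln M (x ^ n :: L) j ≤ n * ln (ModuleCat.of A (QuotSMulTop x M)) L j := by
  rw [(chi_cons_regular (M := M) (x := x ^ n) (fun m => ?_) (h.pow n)).2 j]
  · exact ln_quot_pow_le hx h j n
  · induction n with
    | zero => intro hm; rwa [pow_zero, one_smul] at hm
    | succ k ih => intro hm; rw [pow_succ', mul_smul] at hm; exact ih (hx _ hm)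

variable [IsLocalRing A]

omit [IsLocalRing A] in
theorem poly_step {k : ℕ} (ih : ∀ (x : Fin k → A) (M : ModuleCat.{u} A), Module.Finite A M →
      Good M (List.ofFn x) → ∃ c : ℕ, ∀ n : ℕ, 0 < n → ∀ i : ℕ, i ≤ k →
        ln M (List.ofFn fun j => x j ^ n) (-(i : ℤ)) ≤ c * n ^ (k - i))
    {x : Fin (k + 1) → A} {M : ModuleCat.{u} A} [Module.Finite A M] (h : Good M (List.ofFn x))
    (hcase : (∀ m : M, x 0 • m = 0) ∨ (∀ m : M, x 0 • m = 0 → m = 0)) :
    ∃ c : ℕ, ∀ n : ℕ, 0 < n → ∀ i : ℕ, i ≤ k + 1 →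
      ln M (List.ofFn fun j => x j ^ n) (-(i : ℤ)) ≤ c * n ^ (k + 1 - i) := by
  have h1 : Good M (x 0 :: List.ofFn fun j : Fin k => x j.succ) := by rwa [List.ofFn_succ] at h
  rcases hcase with hk | hinj
  · obtain ⟨c, hc⟩ := ih (fun j => x j.succ) M inferInstance (h1.tail hk)
    refine ⟨2 * c, fun n hn i hi => ?_⟩
    rw [ofFn_succ_pow]
    refine (ln_cons_pow_killed hk (good_cons_pows h n) hn _).trans ?_
    rw [two_mul, add_mul]
    refine add_le_add ?_ ?_
    · rcases hi.lt_or_eq with hlt | rfl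
      · exact (hc n hn i (by omega)).trans (Nat.mul_le_mul_left _ (Nat.pow_le_pow_right hn (by omega)))
      · rw [ln_eq_zero _ _ _ (Or.inr (by rw [List.length_ofFn]; push_cast; omega))]
        exact Nat.zero_le _
    · rcases Nat.eq_zero_or_pos i with rfl | hi0
      · rw [ln_eq_zero _ _ _ (Or.inl (by simp))]
        exact Nat.zero_le _
      · obtain ⟨i, rfl⟩ : ∃ i', i = i' + 1 := ⟨i - 1, by omega⟩
        rw [show -((i + 1 : ℕ) : ℤ) + 1 = -(i : ℤ) by push_cast; ring, Nat.succ_sub_succ]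
        exact hc n hn i (by omega)
  · obtain ⟨c, hc⟩ := ih (fun j => x j.succ) (ModuleCat.of A (QuotSMulTop (x 0) M))
      (inferInstanceAs (Module.Finite A (QuotSMulTop (x 0) M))) (good_quotSMul h1)
    refine ⟨c, fun n hn i hi => ?_⟩
    rw [ofFn_succ_pow]
    refine (ln_cons_pow_regular hinj (good_cons_pows h n) n _).trans ?_
    rcases hi.lt_or_eq with hlt | rfl
    · refine (Nat.mul_le_mul_left n (hc n hn i (by omega))).trans ?_
      rw [show k + 1 - i = k - i + 1 by omega, pow_succ, mul_left_comm, mul_comm n]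
    · rw [ln_eq_zero _ _ _ (Or.inr (by rw [List.length_ofFn]; push_cast; omega)), Nat.mul_zero]
      exact Nat.zero_le _

omit [IsLocalRing A] in
theorem exists_poly_bound : ∀ (k : ℕ) (x : Fin k → A) (M : ModuleCat.{u} A), Module.Finite A M →
    Good M (List.ofFn x) → ∃ c : ℕ, ∀ n : ℕ, 0 < n → ∀ i : ℕ, i ≤ k →
      ln M (List.ofFn fun j => x j ^ n) (-(i : ℤ)) ≤ c * n ^ (k - i) := by
  intro k
  induction k with
  | zero =>
    intro x M _ _
    refine ⟨(Module.length A M).toNat, fun n _ i hi => ?_⟩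
    obtain rfl : i = 0 := by omega
    simp [List.ofFn_zero, ln_nil]
  | succ k ih =>
    intro x M hM h
    refine IsNoetherianRing.induction_on_isQuotientEquivQuotientPrime A (M := M) hM
      (motive := fun N _ _ _ => Good (ModuleCat.of A N) (List.ofFn x) → ∃ c : ℕ, ∀ n : ℕ, 0 < n → ∀ i : ℕ, i ≤ k + 1 →
        ln (ModuleCat.of A N) (List.ofFn fun j => x j ^ n) (-(i : ℤ)) ≤ c * n ^ (k + 1 - i)) ?_ ?_ ?_ h
    · intro N _ _ _ _ _
      haveI : Subsingleton (ModuleCat.of A N) := ‹Subsingleton N›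
      exact ⟨0, fun n _ i _ => by rw [ln_eq_zero_of_subsingleton]; exact Nat.zero_le _⟩
    · intro N _ _ _ p e hN
      exact poly_step ih hN (cases_of_equiv_quotient e (x 0))
    · intro N₁ _ _ _ N₂ _ _ _ N₃ _ _ _ f g hf hg hfg ih₁ ih₃ hN
      obtain ⟨c₁, hc₁⟩ := ih₁ (hN.of_injective (ModuleCat.ofHom f) hf _)
      obtain ⟨c₃, hc₃⟩ := ih₃ (hN.of_surjective (ModuleCat.ofHom g) hg _)
      refine ⟨c₁ + c₃, fun n hn i hi => ?_⟩
      rw [add_mul]
      exact (ln_middle_le (ModuleCat.ofHom f) (ModuleCat.ofHom g) hf hfg hg _ _ (good_pows hN n)).trans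
        (add_le_add (hc₁ n hn i hi) (hc₃ n hn i hi))

theorem dim_step {k : ℕ} (ih : ∀ (x : Fin k → A), (∀ j, x j ∈ IsLocalRing.maximalIdeal A) →
      ∀ (d : ℕ) (M : ModuleCat.{u} A), Module.Finite A M → Module.supportDim A M ≤ (d : WithBot ℕ∞) →
        Good M (List.ofFn x) → ∃ c : ℕ, ∀ n : ℕ, 0 < n → ∀ i : ℤ,
          ln M (List.ofFn fun j => x j ^ n) i ≤ c * n ^ d)
    {x : Fin (k + 1) → A} (hx : ∀ j, x j ∈ IsLocalRing.maximalIdeal A) {d : ℕ} {M : ModuleCat.{u} A}
    [Module.Finite A M] (hd : Module.supportDim A M ≤ (d : WithBot ℕ∞)) (h : Good M (List.ofFn x))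
    (hcase : (∀ m : M, x 0 • m = 0) ∨ (∀ m : M, x 0 • m = 0 → m = 0)) :
    ∃ c : ℕ, ∀ n : ℕ, 0 < n → ∀ i : ℤ, ln M (List.ofFn fun j => x j ^ n) i ≤ c * n ^ d := by
  have h1 : Good M (x 0 :: List.ofFn fun j : Fin k => x j.succ) := by rwa [List.ofFn_succ] at h
  rcases hcase with hk | hinj
  · obtain ⟨c, hc⟩ := ih (fun j => x j.succ) (fun j => hx _) d M inferInstance hd (h1.tail hk)
    refine ⟨2 * c, fun n hn i => ?_⟩
    rw [ofFn_succ_pow]
    refine (ln_cons_pow_killed hk (good_cons_pows h n) hn _).trans ?_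
    rw [two_mul, add_mul]
    exact add_le_add (hc n hn i) (hc n hn (i + 1))
  · have hdq : Module.supportDim A (QuotSMulTop (x 0) M) + 1 ≤ (d : WithBot ℕ∞) :=
      (supportDim_quot (hx 0) hinj).le.trans hd
    rcases d with _ | d
    · haveI : Subsingleton (ModuleCat.of A (QuotSMulTop (x 0) M)) := by
        show Subsingleton (QuotSMulTop (x 0) M)
        rw [← Module.supportDim_eq_bot_iff_subsingleton (R := A)]
        by_contra hne
        obtain ⟨b, hb⟩ := WithBot.ne_bot_iff_exists.1 hne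
        rw [← hb, ← WithBot.coe_natCast, ← WithBot.coe_one, ← WithBot.coe_add, WithBot.coe_le_coe,
          Nat.cast_zero, nonpos_iff_eq_zero, add_eq_zero] at hdq
        exact one_ne_zero hdq.2
      refine ⟨0, fun n hn i => ?_⟩
      rw [ofFn_succ_pow]
      refine (ln_cons_pow_regular hinj (good_cons_pows h n) n _).trans ?_
      rw [ln_eq_zero_of_subsingleton, Nat.mul_zero]
      exact Nat.zero_le _
    · have hdq' : Module.supportDim A (QuotSMulTop (x 0) M) ≤ (d : WithBot ℕ∞) := by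
        revert hdq
        rw [Nat.cast_succ]
        generalize Module.supportDim A (QuotSMulTop (x 0) M) = a
        intro hdq
        induction a using WithBot.recBotCoe with
        | bot => exact bot_le
        | coe b =>
          rw [← WithBot.coe_natCast, ← WithBot.coe_one, ← WithBot.coe_add, ← WithBot.coe_add, WithBot.coe_le_coe,
            ENat.add_le_add_iff_right ENat.one_ne_top] at hdq
          rwa [← WithBot.coe_natCast, WithBot.coe_le_coe]
      obtain ⟨c, hc⟩ := ih (fun j => x j.succ) (fun j => hx _) d (ModuleCat.of A (QuotSMulTop (x 0) M))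
        (inferInstanceAs (Module.Finite A (QuotSMulTop (x 0) M))) hdq' (good_quotSMul h1)
      refine ⟨c, fun n hn i => ?_⟩
      rw [ofFn_succ_pow]
      refine ((ln_cons_pow_regular hinj (good_cons_pows h n) n _).trans (Nat.mul_le_mul_left n (hc n hn i))).trans ?_
      rw [pow_succ, mul_left_comm, mul_comm n]

theorem exists_dim_bound : ∀ (k : ℕ) (x : Fin k → A), (∀ j, x j ∈ IsLocalRing.maximalIdeal A) →
    ∀ (d : ℕ) (M : ModuleCat.{u} A), Module.Finite A M → Module.supportDim A M ≤ (d : WithBot ℕ∞) →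
      Good M (List.ofFn x) → ∃ c : ℕ, ∀ n : ℕ, 0 < n → ∀ i : ℤ,
        ln M (List.ofFn fun j => x j ^ n) i ≤ c * n ^ d := by
  intro k
  induction k with
  | zero =>
    intro x _ d M _ _ _
    refine ⟨(Module.length A M).toNat, fun n hn i => ?_⟩
    rw [List.ofFn_zero]
    by_cases hi : i = 0
    · subst hi
      rw [ln_nil]
      exact Nat.le_mul_of_pos_right _ (Nat.pow_pos hn)
    · rw [ln_eq_zero _ _ _ (by simp; omega)]
      exact Nat.zero_le _
  | succ k ih =>
    intro x hx d M hM hd h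
    refine IsNoetherianRing.induction_on_isQuotientEquivQuotientPrime A (M := M) hM
      (motive := fun N _ _ _ => Module.supportDim A N ≤ (d : WithBot ℕ∞) → Good (ModuleCat.of A N) (List.ofFn x) →
        ∃ c : ℕ, ∀ n : ℕ, 0 < n → ∀ i : ℤ,
          ln (ModuleCat.of A N) (List.ofFn fun j => x j ^ n) i ≤ c * n ^ d) ?_ ?_ ?_ hd h
    · intro N _ _ _ _ _ _
      haveI : Subsingleton (ModuleCat.of A N) := ‹Subsingleton N›
      exact ⟨0, fun n _ i => by rw [ln_eq_zero_of_subsingleton]; exact Nat.zero_le _⟩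
    · intro N _ _ _ p e hd hN
      exact dim_step ih hx hd hN (cases_of_equiv_quotient e (x 0))
    · intro N₁ _ _ _ N₂ _ _ _ N₃ _ _ _ f g hf hg hfg ih₁ ih₃ hd hN
      obtain ⟨c₁, hc₁⟩ := ih₁ ((Module.supportDim_le_of_injective f hf).trans hd)
        (hN.of_injective (ModuleCat.ofHom f) hf _)
      obtain ⟨c₃, hc₃⟩ := ih₃ ((Module.supportDim_le_of_surjective g hg).trans hd)
        (hN.of_surjective (ModuleCat.ofHom g) hg _)
      refine ⟨c₁ + c₃, fun n hn i => ?_⟩
      rw [add_mul]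
      exact (ln_middle_le (ModuleCat.ofHom f) (ModuleCat.ofHom g) hf hfg hg _ _ (good_pows hN n)).trans
        (add_le_add (hc₁ n hn i) (hc₃ n hn i))

end GrothLib.KoszulEuler
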