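import Groth.Agent.Lib.KoszulMod.Basic
import Mathlib.RingTheory.Length
import Mathlib.Algebra.Homology.ShortComplex.ModuleCat

/-! Homology of the cone of a scalar. -/

universe u

open CategoryTheory CategoryTheory.Limits CochainComplex GrothLib.KoszulMod

namespace GrothLib.KoszulEuler

variable {A : Type u} [CommRing A] (K : CochainComplex (ModuleCat.{u} A) ℤ)

/-- Cycles. -/
noncomputable abbrev Zc (i : ℤ) : Submodule A (K.X i) := LinearMap.ker (K.d i (i + 1)).hom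

/-- Boundaries inside the cycles. -/
noncomputable def Bc (i : ℤ) : Submodule A (Zc K i) :=
  (LinearMap.range (K.d (i - 1) i).hom).comap (Zc K i).subtype

/-- Elementwise homology. -/
abbrev HQ (i : ℤ) : Type u := Zc K i ⧸ Bc K i

theorem mem_Zc {i j : ℤ} (h : i + 1 = j) {x : K.X i} : x ∈ Zc K i ↔ (K.d i j).hom x = 0 := by
  subst h; exact Iff.rfl

theorem mem_Bc {i p : ℤ} (h : p + 1 = i) {z : Zc K i} : z ∈ Bc K i ↔ ∃ w, (K.d p i).hom w = z.1 := by
  obtain rfl : p = i - 1 := by omega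
  exact Iff.rfl

theorem nonempty_HQ_equiv (i : ℤ) : Nonempty ((K.homology i : Type u) ≃ₗ[A] HQ K i) := by
  let S := K.sc' (i - 1) i (i + 1)
  have h : LinearMap.range S.moduleCatToCycles = Bc K i := by
    ext z
    refine ⟨fun ⟨w, hw⟩ => ⟨w, congrArg Subtype.val hw⟩, fun ⟨w, hw⟩ => ⟨w, Subtype.ext hw⟩⟩
  exact ⟨(K.homologyIsoSc' (i - 1) i (i + 1) (by simp) (by simp) ≪≫ S.moduleCatHomologyIso).toLinearEquiv.trans
    (Submodule.quotEquivOfEq _ _ h)⟩

theorem length_homology (i : ℤ) : Module.length A (K.homology i) = Module.length A (HQ K i) :=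
  (nonempty_HQ_equiv K i).elim fun e => e.length_eq

variable (f : A)

theorem i₂_cycle (i : ℤ) (z : Zc K i) : (i₂ K f i).hom z.1 ∈ Zc (cone K f) i := by
  rw [mem_Zc _ (j := i + 1) rfl]
  refine cone_ext K f (i + 1) (i + 1 + 1) rfl ?_ ?_
  · refine (p₁_d K f i (i + 1) (i + 1 + 1) rfl rfl _).trans ?_
    rw [p₁_i₂, map_zero, neg_zero, map_zero]
  · refine (p₂_d K f i (i + 1) rfl _).trans ?_
    rw [p₁_i₂, p₂_i₂, smul_zero, zero_add, map_zero]
    exact z.2

theorem p₁_cycle (i : ℤ) (x : Zc (cone K f) i) : (p₁ K f i (i + 1) rfl).hom x.1 ∈ Zc K (i + 1) := by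
  rw [mem_Zc _ (j := i + 1 + 1) rfl]
  have h := p₁_d K f i (i + 1) (i + 1 + 1) rfl rfl x.1
  rw [show ((cone K f).d i (i + 1)).hom x.1 = 0 from x.2, map_zero] at h
  exact neg_eq_zero.1 h.symm

/-- The map into the cone. -/
noncomputable def ha (i : ℤ) : HQ K i →ₗ[A] HQ (cone K f) i :=
  Submodule.mapQ (Bc K i) (Bc (cone K f) i) (((i₂ K f i).hom.comp (Zc K i).subtype).codRestrict _ (i₂_cycle K f i))
    fun z hz => by
      obtain ⟨w, hw⟩ := (mem_Bc K (sub_add_cancel i 1)).1 hz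
      refine (mem_Bc _ (sub_add_cancel i 1)).2 ⟨(i₂ K f (i - 1)).hom w, ?_⟩
      refine cone_ext K f i (i + 1) rfl ?_ ?_
      · refine (p₁_d K f (i - 1) i (i + 1) (sub_add_cancel i 1) rfl _).trans ?_
        rw [p₁_i₂, map_zero, neg_zero]
        exact (p₁_i₂ K f i (i + 1) rfl z.1).symm
      · refine (p₂_d K f (i - 1) i (sub_add_cancel i 1) _).trans ?_
        rw [p₁_i₂, p₂_i₂, smul_zero, zero_add, hw]
        exact (p₂_i₂ K f i z.1).symm

/-- The map out of the cone. -/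
noncomputable def hb (i : ℤ) : HQ (cone K f) i →ₗ[A] HQ K (i + 1) :=
  Submodule.mapQ (Bc (cone K f) i) (Bc K (i + 1))
    (((p₁ K f i (i + 1) rfl).hom.comp (Zc (cone K f) i).subtype).codRestrict _ (p₁_cycle K f i))
    fun x hx => by
      obtain ⟨y, hy⟩ := (mem_Bc _ (sub_add_cancel i 1)).1 hx
      refine (mem_Bc K (p := i) rfl).2 ⟨-(p₁ K f (i - 1) i (sub_add_cancel i 1)).hom y, ?_⟩
      rw [map_neg, ← p₁_d K f (i - 1) i (i + 1) (sub_add_cancel i 1) rfl y, hy]
      rfl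

theorem exact_ha_hb (i : ℤ) : Function.Exact (ha K f i) (hb K f i) := by
  intro q
  obtain ⟨x, rfl⟩ := Submodule.Quotient.mk_surjective _ q
  constructor
  · intro h
    obtain ⟨w, hw⟩ := (mem_Bc K (p := i) rfl).1 ((Submodule.Quotient.mk_eq_zero _).1 h)
    let y := (i₁ K f (i - 1) i (sub_add_cancel i 1)).hom w
    let x' := x.1 + ((cone K f).d (i - 1) i).hom y
    have h1 : (p₁ K f i (i + 1) rfl).hom x' = 0 := by
      show (p₁ K f i (i + 1) rfl).hom (x.1 + ((cone K f).d (i - 1) i).hom y) = 0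
      rw [map_add, p₁_d K f (i - 1) i (i + 1) (sub_add_cancel i 1) rfl y]
      show _ + -(K.d i (i + 1)).hom ((p₁ K f (i - 1) i _).hom ((i₁ K f (i - 1) i (sub_add_cancel i 1)).hom w)) = 0
      rw [p₁_i₁, hw]
      exact add_neg_cancel _
    have hx' : ((cone K f).d i (i + 1)).hom x' = 0 := by
      show ((cone K f).d i (i + 1)).hom (x.1 + ((cone K f).d (i - 1) i).hom y) = 0
      rw [map_add, show ((cone K f).d i (i + 1)).hom x.1 = 0 from x.2, zero_add]
      exact d_d _ _ _ _ y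
    have hz : (p₂ K f i).hom x' ∈ Zc K i := by
      have h2 := p₂_d K f i (i + 1) rfl x'
      rw [hx', map_zero, h1, smul_zero, zero_add] at h2
      exact h2.symm
    refine ⟨Submodule.Quotient.mk ⟨_, hz⟩, (Submodule.Quotient.eq _).2 ((mem_Bc _ (sub_add_cancel i 1)).2 ⟨y, ?_⟩)⟩
    show _ = (i₂ K f i).hom ((p₂ K f i).hom x') - x.1
    have h3 := decomp K f i (i + 1) rfl x'
    rw [h1, map_zero, zero_add] at h3
    rw [← h3]
    exact (add_sub_cancel_left x.1 _).symm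
  · rintro ⟨q', hq⟩
    obtain ⟨z, rfl⟩ := Submodule.Quotient.mk_surjective _ q'
    rw [← hq]
    show Submodule.Quotient.mk _ = 0
    refine (Submodule.Quotient.mk_eq_zero _).2 ?_
    convert Submodule.zero_mem _
    exact Subtype.ext (p₁_i₂ K f i (i + 1) rfl z.1)

theorem ker_ha (i : ℤ) : LinearMap.ker (ha K f i) = LinearMap.range (f • LinearMap.id : HQ K i →ₗ[A] HQ K i) := by
  refine le_antisymm (fun q hq => ?_) ?_
  · obtain ⟨z, rfl⟩ := Submodule.Quotient.mk_surjective _ q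
    obtain ⟨y, hy⟩ := (mem_Bc _ (sub_add_cancel i 1)).1 ((Submodule.Quotient.mk_eq_zero _).1 hq)
    have h1 := p₁_d K f (i - 1) i (i + 1) (sub_add_cancel i 1) rfl y
    have h2 := p₂_d K f (i - 1) i (sub_add_cancel i 1) y
    rw [hy] at h1 h2
    have h1' : (K.d i (i + 1)).hom ((p₁ K f (i - 1) i (sub_add_cancel i 1)).hom y) = 0 :=
      neg_eq_zero.1 (h1.symm.trans (p₁_i₂ K f i (i + 1) rfl z.1))
    refine ⟨Submodule.Quotient.mk ⟨_, h1'⟩, ?_⟩
    show f • (Submodule.Quotient.mk _ : HQ K i) = _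
    rw [← Submodule.Quotient.mk_smul, Submodule.Quotient.eq]
    refine (mem_Bc K (sub_add_cancel i 1)).2 ⟨-(p₂ K f (i - 1)).hom y, ?_⟩
    have h3 := h2.symm.trans (p₂_i₂ K f i z.1)
    show _ = f • (p₁ K f (i - 1) i (sub_add_cancel i 1)).hom y - z.1
    rw [map_neg, ← h3]
    abel
  · rintro _ ⟨q, rfl⟩
    obtain ⟨z, rfl⟩ := Submodule.Quotient.mk_surjective _ q
    show ha K f i (f • Submodule.Quotient.mk z) = 0
    rw [← Submodule.Quotient.mk_smul]
    refine (Submodule.Quotient.mk_eq_zero _).2 ((mem_Bc _ (sub_add_cancel i 1)).2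
      ⟨(i₁ K f (i - 1) i (sub_add_cancel i 1)).hom z.1, ?_⟩)
    refine cone_ext K f i (i + 1) rfl ?_ ?_
    · refine (p₁_d K f (i - 1) i (i + 1) (sub_add_cancel i 1) rfl _).trans ?_
      rw [p₁_i₁, show (K.d i (i + 1)).hom z.1 = 0 from z.2, neg_zero]
      exact (p₁_i₂ K f i (i + 1) rfl _).symm
    · refine (p₂_d K f (i - 1) i (sub_add_cancel i 1) _).trans ?_
      rw [p₁_i₁, p₂_i₁, map_zero, add_zero]
      exact (p₂_i₂ K f i (f • z.1)).symm

theorem range_hb (i : ℤ) :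
    LinearMap.range (hb K f i) = LinearMap.ker (f • LinearMap.id : HQ K (i + 1) →ₗ[A] HQ K (i + 1)) := by
  refine le_antisymm ?_ (fun q hq => ?_)
  · rintro _ ⟨q, rfl⟩
    obtain ⟨x, rfl⟩ := Submodule.Quotient.mk_surjective _ q
    show f • hb K f i (Submodule.Quotient.mk x) = 0
    rw [← map_smul, ← Submodule.Quotient.mk_smul]
    refine (Submodule.Quotient.mk_eq_zero _).2 ((mem_Bc K (p := i) rfl).2 ⟨-(p₂ K f i).hom x.1, ?_⟩)
    have h2 := p₂_d K f i (i + 1) rfl x.1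
    rw [show ((cone K f).d i (i + 1)).hom x.1 = 0 from x.2, map_zero] at h2
    show _ = (p₁ K f i (i + 1) rfl).hom (f • x.1)
    rw [map_neg, map_smul, neg_eq_iff_add_eq_zero]
    exact (add_comm _ _).trans h2.symm
  · obtain ⟨a, rfl⟩ := Submodule.Quotient.mk_surjective _ q
    have h : Submodule.Quotient.mk (f • a) = (0 : HQ K (i + 1)) := hq
    obtain ⟨w, hw⟩ := (mem_Bc K (p := i) rfl).1 ((Submodule.Quotient.mk_eq_zero _).1 h)
    let x := (i₁ K f i (i + 1) rfl).hom a.1 + (i₂ K f i).hom (-w)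
    have hx : x ∈ Zc (cone K f) i := by
      rw [mem_Zc _ (j := i + 1) rfl]
      refine cone_ext K f (i + 1) (i + 1 + 1) rfl ?_ ?_
      · refine (p₁_d K f i (i + 1) (i + 1 + 1) rfl rfl _).trans ?_
        rw [map_zero, map_add, p₁_i₁, p₁_i₂, add_zero, show (K.d (i + 1) (i + 1 + 1)).hom a.1 = 0 from a.2, neg_zero]
      · refine (p₂_d K f i (i + 1) rfl _).trans ?_
        rw [map_zero, map_add, map_add, p₁_i₁, p₁_i₂, add_zero, p₂_i₁, p₂_i₂, zero_add, map_neg, hw]
        exact add_neg_cancel _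
    refine ⟨Submodule.Quotient.mk ⟨x, hx⟩, congrArg _ (Subtype.ext ?_)⟩
    show (p₁ K f i (i + 1) rfl).hom ((i₁ K f i (i + 1) rfl).hom a.1 + (i₂ K f i).hom (-w)) = a.1
    rw [map_add, p₁_i₁, p₁_i₂, add_zero]

/-- The length of the homology of a cone of a scalar. -/
theorem length_homology_cone (i : ℤ) : Module.length A ((cone K f).homology i) =
    Module.length A (HQ K i ⧸ LinearMap.range (f • LinearMap.id : HQ K i →ₗ[A] HQ K i)) +
      Module.length A (LinearMap.ker (f • LinearMap.id : HQ K (i + 1) →ₗ[A] HQ K (i + 1))) := by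
  rw [length_homology, Module.length_eq_add_of_exact (LinearMap.range (ha K f i)).subtype (hb K f i).rangeRestrict
    (Submodule.injective_subtype _) (hb K f i).surjective_rangeRestrict ?_]
  · rw [← ker_ha, ← range_hb]
    exact congrArg (· + _) ((ha K f i).quotKerEquivRange.length_eq).symm
  · intro x
    rw [← Subtype.coe_inj (a := (hb K f i).rangeRestrict x)]
    refine (exact_ha_hb K f i x).trans ⟨fun ⟨y, hy⟩ => ⟨⟨_, y, rfl⟩, hy⟩, ?_⟩
    rintro ⟨⟨_, y, rfl⟩, rfl⟩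
    exact ⟨y, rfl⟩

end GrothLib.KoszulEuler
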