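import Groth.Agent.Lib.KoszulEuler.Cone
import Groth.Agent.Lib.LenIneq
import Groth.Agent.Lib.FiniteLengthSupp
import Groth.Agent.Lib.Herbrand
import Mathlib.RingTheory.Support
import Mathlib.Data.Int.Interval
import Mathlib.Order.Interval.Set.Basic
import Mathlib.Algebra.BigOperators.Finprod

/-! The Koszul Euler characteristic. -/

set_option linter.style.haveILetI false

universe u

open CategoryTheory CategoryTheory.Limits CochainComplex GrothLib.KoszulMod LinearMap

namespace GrothLib.KoszulEuler

variable {A : Type u} [CommRing A]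

/-- The ideal of the elements of a list. -/
abbrev spanL (l : List A) : Ideal A := Ideal.span {a | a ∈ l}

/-- `M / (l)M` has finite length. -/
def Good (M : ModuleCat.{u} A) (l : List A) : Prop :=
  IsFiniteLength A (M ⧸ (spanL l • (⊤ : Submodule A M)))

/-- The length of a Koszul homology module. -/
noncomputable def ln (M : ModuleCat.{u} A) (l : List A) (i : ℤ) : ℕ :=
  (Module.length A (HQ (CohIII.koszulCx M l) i)).toNat

/-- The Euler characteristic. -/
noncomputable def chi (M : ModuleCat.{u} A) (l : List A) : ℤ :=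
  ∑ᶠ i : ℤ, ((i.negOnePow : ℤˣ) : ℤ) * (ln M l i : ℤ)

/-- `length (N/fN) - length N[f]`. -/
noncomputable def eInd (f : A) (N : Type u) [AddCommGroup N] [Module A N] : ℤ :=
  ((Module.length A (N ⧸ range (f • LinearMap.id : N →ₗ[A] N))).toNat : ℤ) -
    (Module.length A (ker (f • LinearMap.id : N →ₗ[A] N))).toNat

theorem finite_X (M : ModuleCat.{u} A) [Module.Finite A M] : ∀ (l : List A) (i : ℤ),
    Module.Finite A ((CohIII.koszulCx M l).X i)
  | [], i => by
    by_cases h : i = 0
    · subst h
      exact Module.Finite.equiv (HomologicalComplex.singleObjXSelf (ComplexShape.up ℤ) 0 M).toLinearEquiv.symm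
    · haveI := ModuleCat.subsingleton_of_isZero (isZero_out M [] i (by simp; omega))
      infer_instance
  | f :: l, i => by
    haveI := finite_X M l (i + 1)
    haveI := finite_X M l i
    refine Module.Finite.of_surjective ((i₁ (CohIII.koszulCx M l) f i (i + 1) rfl).hom.coprod
      (i₂ (CohIII.koszulCx M l) f i).hom) fun x => ⟨((p₁ (CohIII.koszulCx M l) f i (i + 1) rfl).hom x, (p₂ (CohIII.koszulCx M l) f i).hom x), ?_⟩
    exact (decomp (CohIII.koszulCx M l) f i (i + 1) rfl x).symm

theorem smul_eq_zero_X (M : ModuleCat.{u} A) {a : A} (ha : ∀ m : M, a • m = 0) : ∀ (l : List A) (i : ℤ)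
    (x : (CohIII.koszulCx M l).X i), a • x = 0
  | [], i, x => by
    by_cases h : i = 0
    · subst h
      let e := (HomologicalComplex.singleObjXSelf (ComplexShape.up ℤ) 0 M).toLinearEquiv
      exact e.map_eq_zero_iff.1 ((e.map_smul a x).trans (ha _))
    · rw [eq_zero_out M [] i (by simp; omega) x, smul_zero]
  | f :: l, i, (x : (cone (CohIII.koszulCx M l) f).X i) => cone_ext _ _ i (i + 1) rfl
      (((p₁ (CohIII.koszulCx M l) f i (i + 1) rfl).hom.map_smul a x).trans
        ((smul_eq_zero_X M ha l _ _).trans (map_zero _).symm))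
      (((p₂ (CohIII.koszulCx M l) f i).hom.map_smul a x).trans
        ((smul_eq_zero_X M ha l _ _).trans (map_zero _).symm))

theorem subsingleton_HQ (M : ModuleCat.{u} A) (l : List A) (i : ℤ) (h : 0 < i ∨ i + l.length < 0) :
    Subsingleton (HQ (CohIII.koszulCx M l) i) :=
  ⟨fun a b => by
    obtain ⟨a, rfl⟩ := Submodule.Quotient.mk_surjective _ a
    obtain ⟨b, rfl⟩ := Submodule.Quotient.mk_surjective _ b
    exact congrArg _ (Subtype.ext ((eq_zero_out M l i h a.1).trans (eq_zero_out M l i h b.1).symm))⟩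

theorem ln_eq_zero (M : ModuleCat.{u} A) (l : List A) (i : ℤ) (h : 0 < i ∨ i + l.length < 0) : ln M l i = 0 := by
  haveI := subsingleton_HQ M l i h
  rw [ln, Module.length_eq_zero, ENat.toNat_zero]

theorem smul_HQ_eq_zero (M : ModuleCat.{u} A) (l : List A) {a : A} (ha : a ∈ spanL l) (i : ℤ)
    (q : HQ (CohIII.koszulCx M l) i) : a • q = 0 := by
  obtain ⟨z, rfl⟩ := Submodule.Quotient.mk_surjective _ q
  obtain ⟨H⟩ := nonempty_homotopy_of_mem_span M l a ha
  rw [← Submodule.Quotient.mk_smul]
  refine (Submodule.Quotient.mk_eq_zero _).2 ((mem_Bc _ (sub_add_cancel i 1)).2 ⟨(H.hom i (i - 1)).hom z.1, ?_⟩)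
  have h := congrArg (fun g => g.hom z.1) (H.comm i)
  rw [dNext_eq _ (show (ComplexShape.up ℤ).Rel i (i + 1) from rfl),
    prevD_eq _ (show (ComplexShape.up ℤ).Rel (i - 1) i by simp)] at h
  simp only [HomologicalComplex.smul_f_apply, HomologicalComplex.id_f, HomologicalComplex.zero_f, add_zero,
    ModuleCat.hom_add, ModuleCat.hom_comp, ModuleCat.hom_smul, ModuleCat.hom_id, LinearMap.add_apply,
    LinearMap.comp_apply, LinearMap.smul_apply, LinearMap.id_apply,
    show ((CohIII.koszulCx M l).d i (i + 1)).hom z.1 = 0 from z.2, map_zero, zero_add] at h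
  exact h.symm

variable [IsNoetherianRing A]

theorem finite_HQ (M : ModuleCat.{u} A) [Module.Finite A M] (l : List A) (i : ℤ) :
    Module.Finite A (HQ (CohIII.koszulCx M l) i) := by
  haveI := finite_X M l i
  infer_instance

theorem support_HQ (M : ModuleCat.{u} A) [Module.Finite A M] (l : List A) (i : ℤ) :
    Module.support A (HQ (CohIII.koszulCx M l) i) ⊆ Module.support A (M ⧸ (spanL l • (⊤ : Submodule A M))) := by
  haveI := finite_HQ M l i
  intro p hp
  rw [Module.support_quotient]
  rw [Module.mem_support_iff_of_finite] at hp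
  refine ⟨?_, fun a ha => hp (Module.mem_annihilator.2 (smul_HQ_eq_zero M l ha i))⟩
  rw [Module.mem_support_iff_of_finite]
  refine fun a ha => hp (Module.mem_annihilator.2 fun q => ?_)
  obtain ⟨z, rfl⟩ := Submodule.Quotient.mk_surjective _ q
  rw [← Submodule.Quotient.mk_smul, show a • z = 0 from
    Subtype.ext (smul_eq_zero_X M (Module.mem_annihilator.1 ha) l i z.1), Submodule.Quotient.mk_zero]

theorem Good.supportDim_le {M : ModuleCat.{u} A} [Module.Finite A M] {l : List A} (h : Good M l) :
    Module.supportDim A (M ⧸ (spanL l • (⊤ : Submodule A M))) ≤ 0 :=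
  GrothLib.LenIneq.supportDim_le_zero (Module.length_ne_top_iff.2 h)

theorem length_lt_top_of_support {M : ModuleCat.{u} A} [Module.Finite A M] {l : List A} (h : Good M l)
    (N : Type u) [AddCommGroup N] [Module A N] [Module.Finite A N]
    (hN : Module.support A N ⊆ Module.support A (M ⧸ (spanL l • (⊤ : Submodule A M)))) :
    Module.length A N < ⊤ :=
  GrothLib.FiniteLengthSupp.length_lt_top_of_support_subset hN h.supportDim_le

theorem Good.length_lt_top {M : ModuleCat.{u} A} [Module.Finite A M] {l : List A} (h : Good M l) (i : ℤ) :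
    Module.length A (HQ (CohIII.koszulCx M l) i) < ⊤ :=
  haveI := finite_HQ M l i
  length_lt_top_of_support h _ (support_HQ M l i)

omit [IsNoetherianRing A] in
theorem Good.of_mem {M : ModuleCat.{u} A} [Module.Finite A M] {l l' : List A} (h : Good M l)
    (hl : spanL l ≤ spanL l') : Good M l' :=
  IsFiniteLength.of_surjective h (f := Submodule.factor (Submodule.smul_mono_left hl)) (Submodule.factor_surjective _)

theorem support_quot_ker (M : ModuleCat.{u} A) [Module.Finite A M] (f : A) (l : List A) (i : ℤ) :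
    Module.support A (HQ (CohIII.koszulCx M l) i ⧸ range (f • LinearMap.id : _ →ₗ[A] HQ (CohIII.koszulCx M l) i)) ⊆
        Module.support A (M ⧸ (spanL (f :: l) • (⊤ : Submodule A M))) ∧
      Module.support A (ker (f • LinearMap.id : _ →ₗ[A] HQ (CohIII.koszulCx M l) i)) ⊆
        Module.support A (M ⧸ (spanL (f :: l) • (⊤ : Submodule A M))) := by
  haveI := finite_HQ M l i
  have key : ∀ (N : Type u) [AddCommGroup N] [Module A N] [Module.Finite A N],
      Module.support A N ⊆ Module.support A (HQ (CohIII.koszulCx M l) i) → (∀ x : N, f • x = 0) →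
      Module.support A N ⊆ Module.support A (M ⧸ (spanL (f :: l) • (⊤ : Submodule A M))) := by
    intro N _ _ _ hsub hf p hp
    have h := support_HQ M l i (hsub hp)
    rw [Module.support_quotient] at h ⊢
    refine ⟨h.1, Ideal.span_le.2 fun a ha => ?_⟩
    rcases List.mem_cons.1 ha with rfl | ha
    · exact (Module.mem_support_iff_of_finite.1 hp) (Module.mem_annihilator.2 hf)
    · exact h.2 (Ideal.subset_span ha)
  refine ⟨key _ (Module.support_subset_of_surjective _ (Submodule.mkQ_surjective _)) fun x => ?_,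
    key _ (Module.support_subset_of_injective _ (Submodule.injective_subtype _)) fun x => Subtype.ext x.2⟩
  obtain ⟨x, rfl⟩ := Submodule.Quotient.mk_surjective _ x
  exact (Submodule.Quotient.mk_eq_zero _).2 ⟨x, rfl⟩

theorem Good.length_quot_lt {M : ModuleCat.{u} A} [Module.Finite A M] {f : A} {l : List A} (h : Good M (f :: l))
    (i : ℤ) : Module.length A (HQ (CohIII.koszulCx M l) i ⧸
      range (f • LinearMap.id : _ →ₗ[A] HQ (CohIII.koszulCx M l) i)) < ⊤ :=
  haveI := finite_HQ M l i
  length_lt_top_of_support h _ (support_quot_ker M f l i).1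

theorem Good.length_ker_lt {M : ModuleCat.{u} A} [Module.Finite A M] {f : A} {l : List A} (h : Good M (f :: l))
    (i : ℤ) : Module.length A (ker (f • LinearMap.id : _ →ₗ[A] HQ (CohIII.koszulCx M l) i)) < ⊤ :=
  haveI := finite_HQ M l i
  length_lt_top_of_support h _ (support_quot_ker M f l i).2

theorem ln_cons {M : ModuleCat.{u} A} [Module.Finite A M] {f : A} {l : List A} (h : Good M (f :: l)) (i : ℤ) :
    ln M (f :: l) i = (Module.length A (HQ (CohIII.koszulCx M l) i ⧸
        range (f • LinearMap.id : _ →ₗ[A] HQ (CohIII.koszulCx M l) i))).toNat +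
      (Module.length A (ker (f • LinearMap.id : _ →ₗ[A] HQ (CohIII.koszulCx M l) (i + 1)))).toNat := by
  rw [← ENat.toNat_add (h.length_quot_lt i).ne (h.length_ker_lt (i + 1)).ne, ← length_homology_cone,
    length_homology]
  rfl

omit [IsNoetherianRing A] in
theorem finite_support_sign (g : ℤ → ℤ) (n : ℕ) (hg : ∀ i : ℤ, (0 < i ∨ i + (n : ℤ) < 0) → g i = 0) :
    (Function.support fun i : ℤ => ((i.negOnePow : ℤˣ) : ℤ) * g i).Finite := by
  refine (Set.finite_Icc (-(n : ℤ)) 0).subset fun i hi => ?_
  by_contra h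
  refine hi ?_
  show _ * g i = 0
  rw [hg i (by simp at h; omega), mul_zero]

theorem chi_cons {M : ModuleCat.{u} A} [Module.Finite A M] {f : A} {l : List A} (h : Good M (f :: l)) :
    chi M (f :: l) = ∑ᶠ i : ℤ, ((i.negOnePow : ℤˣ) : ℤ) * eInd f (HQ (CohIII.koszulCx M l) i) := by
  let q : ℤ → ℤ := fun i => ((Module.length A (HQ (CohIII.koszulCx M l) i ⧸
    range (f • LinearMap.id : _ →ₗ[A] HQ (CohIII.koszulCx M l) i))).toNat : ℤ)
  let k : ℤ → ℤ := fun i => ((Module.length A (ker (f • LinearMap.id : _ →ₗ[A] HQ (CohIII.koszulCx M l) i))).toNat : ℤ)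
  have hq : ∀ i, (0 < i ∨ i + (l.length : ℤ) < 0) → q i = 0 := fun i hi => by
    haveI := subsingleton_HQ M l i hi
    simp only [q, Module.length_eq_zero, ENat.toNat_zero, Nat.cast_zero]
  have hk : ∀ i, (0 < i ∨ i + (l.length : ℤ) < 0) → k i = 0 := fun i hi => by
    haveI := subsingleton_HQ M l i hi
    simp only [k, Module.length_eq_zero, ENat.toNat_zero, Nat.cast_zero]
  have fq := finite_support_sign q l.length hq
  have fk := finite_support_sign k l.length hk
  have fk' : (Function.support fun i : ℤ => -((((i + 1).negOnePow : ℤˣ) : ℤ) * k (i + 1))).Finite :=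
    (fk.preimage (add_left_injective (1 : ℤ)).injOn).subset fun i hi => by simpa using hi
  calc chi M (f :: l) = ∑ᶠ i : ℤ, (((i.negOnePow : ℤˣ) : ℤ) * q i + -((((i + 1).negOnePow : ℤˣ) : ℤ) * k (i + 1))) :=
        finsum_congr fun i => by
          rw [ln_cons h, Nat.cast_add, mul_add, Int.negOnePow_succ, Units.val_neg, neg_mul, neg_neg]
    _ = (∑ᶠ i : ℤ, ((i.negOnePow : ℤˣ) : ℤ) * q i) +
        ∑ᶠ i : ℤ, -((((i + 1).negOnePow : ℤˣ) : ℤ) * k (i + 1)) := finsum_add_distrib fq fk'
    _ = (∑ᶠ i : ℤ, ((i.negOnePow : ℤˣ) : ℤ) * q i) + -(∑ᶠ i : ℤ, ((i.negOnePow : ℤˣ) : ℤ) * k i) := by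
        rw [finsum_neg_distrib]
        exact congrArg (_ + -·) (finsum_comp_equiv (Equiv.addRight (1 : ℤ))
          (f := fun i : ℤ => ((i.negOnePow : ℤˣ) : ℤ) * k i))
    _ = _ := by
        rw [← sub_eq_add_neg, ← finsum_sub_distrib fq fk]
        exact finsum_congr fun i => (mul_sub _ _ _).symm

omit [IsNoetherianRing A] in
theorem eInd_mul (x y : A) (N : Type u) [AddCommGroup N] [Module A N]
    (hx : Module.length A (N ⧸ range (x • LinearMap.id : N →ₗ[A] N)) < ⊤)
    (hx' : Module.length A (ker (x • LinearMap.id : N →ₗ[A] N)) < ⊤)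
    (hy : Module.length A (N ⧸ range (y • LinearMap.id : N →ₗ[A] N)) < ⊤)
    (hy' : Module.length A (ker (y • LinearMap.id : N →ₗ[A] N)) < ⊤) :
    eInd (x * y) N = eInd x N + eInd y N := by
  let a := (x • LinearMap.id : N →ₗ[A] N)
  let b := (y • LinearMap.id : N →ₗ[A] N)
  let c := ((x * y) • LinearMap.id : N →ₗ[A] N)
  let f₁ : ker a →ₗ[A] ker c := Submodule.inclusion fun n hn => by
    show (x * y) • n = 0
    rw [mul_comm, mul_smul, show x • n = 0 from hn, smul_zero]
  let f₂ : ker c →ₗ[A] ker b := LinearMap.codRestrict _ (a.comp (ker c).subtype) fun n => by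
    show y • x • n.1 = 0
    rw [← mul_smul, mul_comm]; exact n.2
  let f₃ : ker b →ₗ[A] N ⧸ range a := (range a).mkQ.comp (ker b).subtype
  let f₄ : (N ⧸ range a) →ₗ[A] N ⧸ range c := Submodule.mapQ _ _ b (by
    rintro _ ⟨n, rfl⟩
    exact ⟨n, by show (x * y) • n = y • x • n; rw [← mul_smul, mul_comm]⟩)
  let f₅ : (N ⧸ range c) →ₗ[A] N ⧸ range b := Submodule.factor (by
    rintro _ ⟨n, rfl⟩
    exact ⟨x • n, by show y • x • n = (x * y) • n; rw [← mul_smul, mul_comm]⟩)
  have e1 : Function.Exact f₁ f₂ := fun n => by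
    refine ⟨fun h => ⟨⟨n.1, congrArg Subtype.val h⟩, rfl⟩, ?_⟩
    rintro ⟨m, rfl⟩
    exact Subtype.ext m.2
  have e2 : Function.Exact f₂ f₃ := fun n => by
    constructor
    · intro h
      obtain ⟨m, hm⟩ := (Submodule.Quotient.mk_eq_zero _).1 h
      refine ⟨⟨m, ?_⟩, Subtype.ext hm⟩
      show (x * y) • m = 0
      rw [mul_comm, mul_smul, show x • m = n.1 from hm]
      exact n.2
    · rintro ⟨m, rfl⟩
      exact (Submodule.Quotient.mk_eq_zero _).2 ⟨m.1, rfl⟩
  have e3 : Function.Exact f₃ f₄ := fun q => by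
    obtain ⟨n, rfl⟩ := Submodule.Quotient.mk_surjective _ q
    constructor
    · intro h
      obtain ⟨m, hm⟩ := (Submodule.Quotient.mk_eq_zero _).1 h
      refine ⟨⟨n - x • m, ?_⟩, (Submodule.Quotient.eq _).2 ⟨-m, ?_⟩⟩
      · show y • (n - x • m) = 0
        rw [smul_sub, ← mul_smul, mul_comm, show (x * y) • m = y • n from hm, sub_self]
      · show x • -m = n - x • m - n
        rw [smul_neg]; abel
    · rintro ⟨m, hm⟩
      rw [← hm]
      refine (Submodule.Quotient.mk_eq_zero _).2 ?_
      show y • m.1 ∈ _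
      rw [show y • m.1 = 0 from m.2]
      exact zero_mem _
  have e4 : Function.Exact f₄ f₅ := fun q => by
    obtain ⟨n, rfl⟩ := Submodule.Quotient.mk_surjective _ q
    constructor
    · intro h
      obtain ⟨m, hm⟩ := (Submodule.Quotient.mk_eq_zero _).1 h
      exact ⟨Submodule.Quotient.mk m, congrArg _ hm⟩
    · rintro ⟨m, hm⟩
      rw [← hm]
      obtain ⟨m, rfl⟩ := Submodule.Quotient.mk_surjective _ m
      exact (Submodule.Quotient.mk_eq_zero _).2 ⟨m, rfl⟩
  have s1 := GrothLib.Herbrand.length_eq_range_add_range (R := A) _ _ e1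
  have s2 := GrothLib.Herbrand.length_eq_range_add_range (R := A) _ _ e2
  have s3 := GrothLib.Herbrand.length_eq_range_add_range (R := A) _ _ e3
  have s4 := GrothLib.Herbrand.length_eq_range_add_range (R := A) _ _ e4
  have hinj : Module.length A (range f₁) = Module.length A (ker a) :=
    (LinearEquiv.ofInjective f₁ (Submodule.inclusion_injective _)).length_eq.symm
  have hsurj : Module.length A (range f₅) = Module.length A (N ⧸ range b) := by
    rw [LinearMap.range_eq_top.2 (Submodule.factor_surjective _), Module.length_top]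
  have g2 := GrothLib.Herbrand.length_range_lt_top' (R := A) f₂ hy'
  have g3 := GrothLib.Herbrand.length_range_lt_top' (R := A) f₃ hx
  have g4 := GrothLib.Herbrand.length_range_lt_top (R := A) f₄ hx
  show ((Module.length A (N ⧸ range c)).toNat : ℤ) - (Module.length A (ker c)).toNat =
    ((Module.length A (N ⧸ range a)).toNat : ℤ) - (Module.length A (ker a)).toNat +
      (((Module.length A (N ⧸ range b)).toNat : ℤ) - (Module.length A (ker b)).toNat)
  rw [s1, s2, s3, s4, hinj, hsurj, ENat.toNat_add hx'.ne g2.ne, ENat.toNat_add g2.ne g3.ne,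
    ENat.toNat_add g3.ne g4.ne, ENat.toNat_add g4.ne hy.ne]
  push_cast
  ring

omit [IsNoetherianRing A] in
theorem finite_support_eInd (M : ModuleCat.{u} A) (f : A) (l : List A) :
    (Function.support fun i : ℤ => ((i.negOnePow : ℤˣ) : ℤ) * eInd f (HQ (CohIII.koszulCx M l) i)).Finite :=
  finite_support_sign _ l.length fun i hi => by
    haveI := subsingleton_HQ M l i hi
    simp only [eInd, Module.length_eq_zero, ENat.toNat_zero, Nat.cast_zero, sub_zero]

theorem chi_mul_head {M : ModuleCat.{u} A} [Module.Finite A M] {x y : A} {l : List A} (hx : Good M (x :: l))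
    (hy : Good M (y :: l)) (hxy : Good M (x * y :: l)) :
    chi M (x * y :: l) = chi M (x :: l) + chi M (y :: l) := by
  rw [chi_cons hx, chi_cons hy, chi_cons hxy, ← finsum_add_distrib (finite_support_eInd M x l) (finite_support_eInd M y l)]
  refine finsum_congr fun i => ?_
  rw [← mul_add, eInd_mul x y _ (hx.length_quot_lt i) (hx.length_ker_lt i) (hy.length_quot_lt i) (hy.length_ker_lt i)]

theorem Good.mul {M : ModuleCat.{u} A} [Module.Finite A M] {x y : A} {l : List A} (hx : Good M (x :: l))
    (hy : Good M (y :: l)) : Good M (x * y :: l) := by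
  refine Module.length_ne_top_iff.1 (GrothLib.FiniteLengthSupp.length_lt_top ?_).ne
  have hsub : Module.support A (M ⧸ (spanL (x * y :: l) • (⊤ : Submodule A M))) ⊆
      Module.support A (M ⧸ (spanL (x :: l) • (⊤ : Submodule A M))) ∪
        Module.support A (M ⧸ (spanL (y :: l) • (⊤ : Submodule A M))) := by
    intro p hp
    simp only [Module.support_quotient, Set.mem_union, Set.mem_inter_iff, PrimeSpectrum.zeroLocus_span,
      PrimeSpectrum.mem_zeroLocus, Set.subset_def, Set.mem_ofPred_eq, List.mem_cons, forall_eq_or_imp,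
      SetLike.mem_coe] at hp ⊢
    obtain ⟨h1, h2, h3⟩ := hp
    exact (p.isPrime.mem_or_mem h2).imp (fun h => ⟨h1, h, h3⟩) fun h => ⟨h1, h, h3⟩
  have z : ∀ (S : Set (PrimeSpectrum A)) (N : Type u) [AddCommGroup N] [Module A N] [Module.Finite A N],
      S = Module.support A N → Module.supportDim A N ≤ 0 → ∀ p ∈ S, p.asIdeal.IsMaximal := by
    intro S N _ _ _ hS hN p hp
    subst hS
    rw [Module.supportDim_eq_ringKrullDim_quotient_annihilator, ← Nat.cast_zero, ← Ring.krullDimLE_iff] at hN
    have hle := Module.mem_support_iff_of_finite.1 hp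
    haveI : (p.asIdeal.map (Ideal.Quotient.mk (Module.annihilator A N))).IsPrime :=
      Ideal.map_isPrime_of_surjective Ideal.Quotient.mk_surjective (by rwa [Ideal.mk_ker])
    have := Ideal.IsPrime.isMaximal' (R := A ⧸ Module.annihilator A N)
      (I := p.asIdeal.map (Ideal.Quotient.mk (Module.annihilator A N))) inferInstance
    have h2 := Ideal.comap_isMaximal_of_surjective (Ideal.Quotient.mk (Module.annihilator A N))
      Ideal.Quotient.mk_surjective (K := p.asIdeal.map (Ideal.Quotient.mk (Module.annihilator A N)))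
    rwa [Ideal.comap_map_of_surjective _ Ideal.Quotient.mk_surjective, ← RingHom.ker_eq_comap_bot, Ideal.mk_ker,
      sup_eq_left.2 hle] at h2
  refine Order.krullDim_nonpos_iff_forall_isMax.2 fun a b hab => ?_
  have hmax : a.1.asIdeal.IsMaximal := (hsub a.2).elim (z _ _ rfl hx.supportDim_le a.1) (z _ _ rfl hy.supportDim_le a.1)
  exact (PrimeSpectrum.ext (hmax.eq_of_le b.1.isPrime.ne_top hab) : a.1 = b.1).ge

end GrothLib.KoszulEuler
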