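import Mathlib.Algebra.Order.Antidiag.Pi
import Mathlib.Data.Finsupp.Multiset
import Mathlib.Data.Sym.Card
import Mathlib.Data.Nat.Choose.Basic
import Mathlib.Data.Fintype.BigOperators
import Mathlib.Analysis.SpecificLimits.Basic
import Mathlib.Tactic.LinearCombination

/-! Exponent vectors. -/

set_option autoImplicit false

open Filter Topology

namespace GrothLib.KoszulEuler.Exps

variable {d : ℕ}

/-- Exponents of degree `t`. -/
def mon (d t : ℕ) : Finset (Fin d → ℕ) := Finset.piAntidiag Finset.univ t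

theorem mem_mon {t : ℕ} {a : Fin d → ℕ} : a ∈ mon d t ↔ ∑ j, a j = t := by
  simp [mon]

theorem card_mon (d t : ℕ) : (mon d t).card = Nat.multichoose d t := by
  rw [Nat.multichoose_eq]
  have e : {a // a ∈ mon d t} ≃ Sym (Fin d) t :=
    (Equiv.subtypeEquivRight fun a => mem_mon).trans (Sym.equivNatSumOfFintype (Fin d) t).symm
  rw [← Fintype.card_coe, Fintype.card_congr e, Sym.card_sym_eq_choose, Fintype.card_fin]

/-- The number of exponents of degree less than `T`. -/
def cnt (d T : ℕ) : ℕ := ∑ t ∈ Finset.range T, (mon d t).card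

theorem cnt_succ (d : ℕ) : ∀ T, cnt d (T + 1) = (d + T).choose d
  | 0 => by simp [cnt, card_mon, Nat.multichoose_zero_right]
  | T + 1 => by
    rw [cnt, Finset.sum_range_succ, ← cnt, cnt_succ d T, card_mon]
    rcases d with _ | d
    · simp [Nat.multichoose_zero_succ]
    · rw [Nat.multichoose_eq, show d + 1 + (T + 1) - 1 = d + 1 + T by omega,
        ← Nat.add_assoc (d + 1) T 1, Nat.choose_succ_succ (d + 1 + T) d, Nat.add_comm]
      congr 1
      rw [← Nat.choose_symm_of_eq_add (show d + 1 + T = d + (T + 1) by omega)]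

theorem tendsto_choose (d : ℕ) :
    Tendsto (fun T : ℕ => ((d + T).choose d : ℝ) / (T : ℝ) ^ d) atTop (𝓝 (1 / (d.factorial : ℝ))) := by
  induction d with
  | zero => simp
  | succ d ih =>
    have h : Tendsto (fun T : ℕ => ((T : ℝ) + (d + 1)) / (T : ℝ)) atTop (𝓝 1) := by
      have h0 : Tendsto (fun T : ℕ => 1 + ((d : ℝ) + 1) * (T : ℝ)⁻¹) atTop (𝓝 (1 + ((d : ℝ) + 1) * 0)) :=
        tendsto_const_nhds.add ((tendsto_inv_atTop_zero.comp tendsto_natCast_atTop_atTop).const_mul _)
      rw [mul_zero, add_zero] at h0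
      refine h0.congr' ?_
      filter_upwards [eventually_gt_atTop 0] with T hT
      field_simp
    have h2 := (ih.mul h).div_const ((d : ℝ) + 1)
    rw [mul_one, show 1 / (d.factorial : ℝ) / ((d : ℝ) + 1) = 1 / ((d + 1).factorial : ℝ) by
      rw [Nat.factorial_succ]; push_cast; rw [div_div]; ring] at h2
    refine h2.congr' ?_
    filter_upwards [eventually_gt_atTop 0] with T hT
    have e := congrArg (Nat.cast (R := ℝ)) (Nat.add_one_mul_choose_eq (d + T) d)
    push_cast at e
    rw [show d + 1 + T = d + T + 1 by omega]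
    field_simp
    linear_combination (T : ℝ) ^ (d + 1) * e

theorem tendsto_cnt (d : ℕ) :
    Tendsto (fun T : ℕ => (cnt d T : ℝ) / (T : ℝ) ^ d) atTop (𝓝 (1 / (d.factorial : ℝ))) := by
  have h1 := (tendsto_choose d).comp (tendsto_sub_atTop_nat 1)
  have h2 : Tendsto (fun T : ℕ => (((T - 1 : ℕ) : ℝ) / (T : ℝ)) ^ d) atTop (𝓝 1) := by
    have h0 : Tendsto (fun T : ℕ => 1 - (T : ℝ)⁻¹) atTop (𝓝 (1 - 0)) :=
      tendsto_const_nhds.sub (tendsto_inv_atTop_zero.comp tendsto_natCast_atTop_atTop)
    rw [sub_zero] at h0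
    have := (h0.congr' (f₂ := fun T : ℕ => ((T - 1 : ℕ) : ℝ) / (T : ℝ)) ?_).pow d
    · simpa using this
    · filter_upwards [eventually_gt_atTop 0] with T hT
      rw [Nat.cast_sub hT]
      field_simp
      simp
  have h3 := h1.mul h2
  rw [mul_one] at h3
  refine h3.congr' ?_
  filter_upwards [eventually_gt_atTop 1] with T hT
  obtain ⟨T, rfl⟩ : ∃ T', T = T' + 1 := ⟨T - 1, by omega⟩
  have hT' : (T : ℝ) ≠ 0 := by
    have : 0 < T := by omega
    positivity
  simp only [Function.comp_apply, Nat.add_sub_cancel, cnt_succ, div_pow]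
  field_simp

/-- Exponents with all entries below `n`. -/
def box (d n : ℕ) : Finset (Fin d → ℕ) := Fintype.piFinset fun _ => Finset.range n

theorem mem_box {n : ℕ} {a : Fin d → ℕ} : a ∈ box d n ↔ ∀ j, a j < n := by
  simp [box]

theorem card_box (d n : ℕ) : (box d n).card = n ^ d := by
  simp [box]

theorem sum_card_le {S : ℕ → Finset (Fin d → ℕ)} {B : Finset (Fin d → ℕ)}
    (h : ∀ t, ∀ a ∈ S t, a ∈ B ∧ ∑ j, a j = t) (T : ℕ) : ∑ t ∈ Finset.range T, (S t).card ≤ B.card := by
  classical
  rw [← Finset.card_biUnion fun t _ t' _ hne => Finset.disjoint_left.2 fun a ha ha' =>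
    hne ((h t a ha).2.symm.trans (h t' a ha').2)]
  refine Finset.card_le_card fun a ha => ?_
  obtain ⟨t, -, hat⟩ := Finset.mem_biUnion.1 ha
  exact (h t a hat).1

/-- The part of the box not above `α` is small. -/
theorem card_not_le_mul (α : Fin d → ℕ) (n : ℕ) :
    ((box d n).filter fun b => ¬ ∀ j, α j ≤ b j).card * n ≤ (∑ j, α j) * n ^ d := by
  classical
  have hsub : ((box d n).filter fun b => ¬ ∀ j, α j ≤ b j) ⊆
      Finset.univ.biUnion fun j : Fin d => Fintype.piFinset fun i => if i = j then Finset.range (α j) else Finset.range n := by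
    intro b hb
    obtain ⟨hbox, hb⟩ := Finset.mem_filter.1 hb
    obtain ⟨j, hj⟩ : ∃ j, b j < α j := by
      by_contra hne
      exact hb fun j => not_lt.1 fun h => hne ⟨j, h⟩
    refine Finset.mem_biUnion.2 ⟨j, Finset.mem_univ _, Fintype.mem_piFinset.2 fun i => ?_⟩
    split_ifs with hij
    · subst hij; exact Finset.mem_range.2 hj
    · exact Finset.mem_range.2 (mem_box.1 hbox i)
  refine (Nat.mul_le_mul_right n ((Finset.card_le_card hsub).trans Finset.card_biUnion_le)).trans ?_
  rw [Finset.sum_mul, Finset.sum_mul]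
  refine Finset.sum_le_sum fun j _ => le_of_eq ?_
  rw [Fintype.card_piFinset, ← Finset.mul_prod_erase _ _ (Finset.mem_univ j), if_pos rfl,
    Finset.prod_congr rfl (g := fun _ => n) fun i hi => by rw [if_neg (Finset.ne_of_mem_erase hi), Finset.card_range],
    Finset.prod_const, Finset.card_erase_of_mem (Finset.mem_univ j), Finset.card_univ, Fintype.card_fin,
    Finset.card_range, mul_assoc, ← pow_succ, Nat.sub_add_cancel (Fin.pos j)]

theorem exists_big {n T : ℕ} (h : d * n < T) {a : Fin d → ℕ} (ha : a ∈ mon d T) : ∃ j, n ≤ a j := by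
  by_contra hne
  simp only [not_exists, not_le] at hne
  have : ∑ j, a j ≤ ∑ _j : Fin d, n := Finset.sum_le_sum fun j _ => (hne j).le
  rw [mem_mon.1 ha, Finset.sum_const, Finset.card_univ, Fintype.card_fin, smul_eq_mul] at this
  omega

end GrothLib.KoszulEuler.Exps
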